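/-
Overgroups of the monomial group in `SU_6(q)`, `q ≥ 3`: some element outside it has a column with a zero.

If every column of every element is monomial or full, centralisers of suitable monomial involutions stay monomial.
In odd characteristic the product of a diagonal involution and a conjugate of a monomial one then has even order,
and its central involution is a double transposition fixing a full column; there are too few of those. In even
characteristic a transvection and a double transposition give a monomial involution with a too large displacement.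
-/
import Mathlib
import Cfsg.Agent.Lib.MaxCl.UnitaryMonoZero

set_option autoImplicit false
set_option maxRecDepth 4000

namespace Cfsg.Agent.MaxCl.Unit

open scoped MatrixGroups Matrix

/-- two involutions are conjugate or their product has a central power of order two -/
theorem dihedral_dichotomy {G : Type*} [Group G] {P : Subgroup G} {z w : G} (hz : z ∈ P) (hw : w ∈ P)
    (hz2 : z * z = 1) (hw2 : w * w = 1) (hfin : IsOfFinOrder (z * w)) :
    (∃ u ∈ P, u * z * u⁻¹ = w) ∨ ∃ c ∈ P, c ≠ 1 ∧ c * c = 1 ∧ c * z = z * c ∧ c * w = w * c := by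
  obtain ⟨r, hr⟩ : ∃ r, r = z * w := ⟨_, rfl⟩
  have hrP : r ∈ P := hr ▸ P.mul_mem hz hw
  have hzi : z⁻¹ = z := inv_eq_of_mul_eq_one_right hz2
  have hwi : w⁻¹ = w := inv_eq_of_mul_eq_one_right hw2
  have hinv : z * r * z⁻¹ = r⁻¹ := by rw [hr, mul_inv_rev, hzi, hwi, ← mul_assoc, hz2, one_mul]
  have hpow : ∀ j : ℕ, z * r ^ j * z⁻¹ = (r ^ j)⁻¹ := fun j => by rw [← conj_pow, hinv, inv_pow]
  have hpos : 0 < orderOf r := by rw [hr]; exact hfin.orderOf_pos
  rcases Nat.even_or_odd (orderOf r) with ⟨k, hk⟩ | ⟨m, hm⟩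
  · refine Or.inr ⟨r ^ k, P.pow_mem hrP k, fun h => ?_, by rw [← pow_add, ← hk, pow_orderOf_eq_one], ?_, ?_⟩
    · have := orderOf_dvd_of_pow_eq_one h
      have := Nat.le_of_dvd (by omega) this
      omega
    all_goals have hk2 : (r ^ k)⁻¹ = r ^ k := inv_eq_of_mul_eq_one_right (by
      rw [← pow_add, ← hk, pow_orderOf_eq_one])
    · have := hpow k
      rw [hk2, mul_inv_eq_iff_eq_mul] at this
      exact this.symm
    · have hcz : r ^ k * z = z * r ^ k := by
        have := hpow k
        rw [hk2, mul_inv_eq_iff_eq_mul] at this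
        exact this.symm
      have hwz : w = z * r := by rw [hr, ← mul_assoc, hz2, one_mul]
      rw [hwz, ← mul_assoc, hcz, mul_assoc, (Commute.pow_self r k).eq, ← mul_assoc]
  · refine Or.inl ⟨r ^ m, P.pow_mem hrP m, ?_⟩
    have h1 : z * r ^ m = (r ^ m)⁻¹ * z := mul_inv_eq_iff_eq_mul.1 (hpow m)
    have h2 : z * (r ^ m)⁻¹ = r ^ m * z := by
      rw [eq_comm, eq_mul_inv_iff_mul_eq, mul_assoc, h1, ← mul_assoc, mul_inv_cancel, one_mul]
    calc r ^ m * z * (r ^ m)⁻¹ = r ^ m * (z * (r ^ m)⁻¹) := mul_assoc _ _ _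
      _ = r ^ (m + m) * z := by rw [h2, ← mul_assoc, ← pow_add]
      _ = r⁻¹ * z := by
          congr 1
          rw [eq_inv_iff_mul_eq_one, ← pow_succ, ← two_mul, ← hm, pow_orderOf_eq_one]
      _ = w := by rw [hr, mul_inv_rev, hzi, hwi, mul_assoc, hz2, mul_one]

namespace Six

abbrev PairIdx : Type := {p : Fin 6 × Fin 6 // p.1 ≠ p.2}

theorem even_involution {π : Equiv.Perm (Fin 6)} (h : ∀ i, π (π i) = i) (h1 : π ≠ 1)
    (hs : Equiv.Perm.sign π = 1) : (Finset.univ.filter fun i => π i = i).card = 2 := by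
  revert h h1 hs; revert π; decide +kernel

theorem card_doubles : (Finset.univ.filter fun π : Equiv.Perm (Fin 6) =>
    (∀ i, π (π i) = i) ∧ (Finset.univ.filter fun i => π i = i).card = 2).card = 45 := by decide +kernel

theorem card_preserved {π : Equiv.Perm (Fin 6)} (h : ∀ i, π (π i) = i)
    (hf : (Finset.univ.filter fun i => π i = i).card = 2) :
    (Finset.univ.filter fun p : Fin 6 × Fin 6 => p.1 ≠ p.2 ∧
      ((π p.1 = p.1 ∧ π p.2 = p.2) ∨ (π p.1 = p.2 ∧ π p.2 = p.1))).card = 6 := by
  revert h hf; revert π; decide +kernel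

theorem card_others (c : Fin 6) :
    (Finset.univ.filter fun p : Fin 6 × Fin 6 => p.1 ≠ p.2 ∧ p.1 ≠ c ∧ p.2 ≠ c).card = 20 := by
  revert c; decide +kernel

theorem card_pairs : (Finset.univ.filter fun p : Fin 6 × Fin 6 => p.1 ≠ p.2).card = 30 := by decide +kernel

end Six

variable {F : Type*} [Field F] [Fintype F]
variable {σ : F ≃+* F} {q : ℕ} {M : Subgroup (GL (Fin 6) F)}

namespace Ctx

variable (C : Ctx σ q (id : Fin 6 → Fin 6) M)
include C

/-- the inverse of a monomial element is monomial -/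
theorem isMono_inv {g : GL (Fin 6) F} (hg : g ∈ M) (hgm : IsMono g) : IsMono g⁻¹ := by
  choose π s hs hcol using fun a => C.mono_col hg (hgm a)
  have hπi : Function.Injective π := by
    intro x y hxy
    by_contra hne
    have := C.col_norm hg x y
    rw [if_neg hne, hcol, hcol, hxy, smul_left C.hU, smul_right C.hU, C.herm_single_self, mul_one] at this
    exact mul_ne_zero (C.norm_one_ne_zero (hs x)) ((map_ne_zero σ).2 (C.norm_one_ne_zero (hs y))) this
  intro j
  obtain ⟨a, rfl⟩ := Finite.surjective_of_injective hπi j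
  have e : act g⁻¹ (Pi.single (π a) 1) = (s a)⁻¹ • Pi.single a 1 := by
    apply act_injective g
    rw [act_act_inv, map_smul, hcol, smul_smul, inv_mul_cancel₀ (C.norm_one_ne_zero (hs a)), one_smul]
  rw [e]
  exact (Finset.card_le_card (t := {a}) fun x hx => by
    simp only [mem_supp, Finset.mem_singleton] at hx ⊢
    by_contra hxa
    exact hx (by simp [hxa])).trans (Finset.card_singleton a).le

/-- the data of a monomial element -/
theorem mono_data {g : GL (Fin 6) F} (hg : g ∈ M) (hgm : IsMono g) :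
    ∃ (π : Equiv.Perm (Fin 6)) (δ : Fin 6 → F), (∀ j, δ j * σ (δ j) = 1) ∧
      (∀ j, act g (Pi.single j 1) = δ j • Pi.single (π j) 1) ∧ (∀ y j, act g y (π j) = δ j * y j) ∧
      ((Equiv.Perm.sign π : ℤ) : F) * ∏ j, δ j = 1 := by
  choose π s hs hcol using fun a => C.mono_col hg (hgm a)
  have hπi : Function.Injective π := by
    intro x y hxy
    by_contra hne
    have := C.col_norm hg x y
    rw [if_neg hne, hcol, hcol, hxy, smul_left C.hU, smul_right C.hU, C.herm_single_self, mul_one] at this
    exact mul_ne_zero (C.norm_one_ne_zero (hs x)) ((map_ne_zero σ).2 (C.norm_one_ne_zero (hs y))) this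
  let e := Equiv.ofBijective π (Finite.injective_iff_bijective.1 hπi)
  obtain ⟨g', -, hg', hx, hdet⟩ := C.exists_mono e s hs
  have hgg : g' = g := gl_ext fun y => by
    rw [Monom.eq_sum_single y, map_sum, map_sum]
    exact Finset.sum_congr rfl fun j _ => by rw [map_smul, map_smul, hg', hcol]; rfl
  refine ⟨e, s, hs, hcol, fun y j => hgg ▸ hx y j, ?_⟩
  rw [hgg, Monom.mem_specialLinear_iff.1 (C.le hg).2] at hdet
  exact hdet.symm

/-- every column of every element is monomial or full -/
def MonoOrFull (_C : Ctx σ q (id : Fin 6 → Fin 6) M) : Prop :=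
  ∀ g ∈ M, ∀ a, 2 ≤ (supp (act g (Pi.single a 1))).card → ∀ r, act g (Pi.single a 1) r ≠ 0

variable (H : C.MonoOrFull)
include H

theorem full_of_not_mono {g : GL (Fin 6) F} (hg : g ∈ M) (hgm : ¬ IsMono g) (a r : Fin 6) :
    act g (Pi.single a 1) r ≠ 0 := by
  refine H g hg a (by_contra fun hlt => ?_) r
  obtain ⟨l, s, hs, he⟩ := C.mono_col hg (a := a) (by omega)
  obtain ⟨b, hb⟩ := not_forall.1 hgm
  have hab : b ≠ a := fun e => hb (e ▸ (by omega))
  have := C.col_norm hg b a
  rw [if_neg hab, he, smul_right C.hU, C.herm_single_right] at this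
  exact H g hg b (by omega) l ((mul_eq_zero.1 this).resolve_left ((map_ne_zero σ).2 (C.norm_one_ne_zero hs)))

/-- an element with one column that is not full is monomial -/
theorem mono_of_zero {g : GL (Fin 6) F} (hg : g ∈ M) {a r : Fin 6} (h : act g (Pi.single a 1) r = 0) :
    IsMono g :=
  by_contra fun hgm => C.full_of_not_mono H hg hgm a r h

/-- odd `q`: a double transposition fixing a column -/
theorem exists_double (h2 : (2 : F) ≠ 0) {g : GL (Fin 6) F} (hg : g ∈ M) (hgm : ¬ IsMono g) {i j a b c : Fin 6}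
    (hij : i ≠ j) (hab : a ≠ b) (hac : a ≠ c) (hbc : b ≠ c) {s : F} (hs : s * σ s = 1) :
    ∃ d ∈ M, ∃ (π π' : Equiv.Perm (Fin 6)) (δ δ' : Fin 6 → F),
      (∀ y r, act d y (π r) = δ r * y r) ∧ act d (act g (Pi.single c 1)) = act g (Pi.single c 1) ∧
      (∀ r, π (π r) = r) ∧ (Finset.univ.filter fun r => π r = r).card = 2 ∧
      ((π i = i ∧ π j = j) ∨ (π i = j ∧ π j = i)) ∧
      (∀ y r, act (g⁻¹ * d * g) y (π' r) = δ' r * y r) ∧
      (∀ r, π' (π' r) = r) ∧ (Finset.univ.filter fun r => π' r = r).card = 2 ∧ π' a = b ∧ (δ' a) ^ 2 = s ^ 2 := by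
  have hne1 : (-1 : F) ≠ 1 := fun e => h2 (by linear_combination -e)
  have hg' : ¬ IsMono g⁻¹ := fun h => hgm (by simpa using C.isMono_inv (M.inv_mem hg) h)
  have hfull := C.full_of_not_mono H hg hgm
  -- the two involutions
  obtain ⟨z, hz, -, hzx⟩ := C.exists_diag (fun r => if r = i ∨ r = j then -1 else 1)
    (fun r => by split_ifs <;> simp) (by
    rw [Finset.prod_eq_mul i j hij (fun r _ hr => by simp [hr.1, hr.2]) (by simp) (by simp)]
    simp)
  obtain ⟨n, hn, -, hnx⟩ := C.exists_mono_mem (Equiv.swap a b)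
    (fun r => if r = a then s else if r = b then σ s else if r = c then -1 else 1)
    (fun r => by
      split_ifs
      · exact hs
      · rw [C.sigma_sigma, mul_comm, hs]
      · simp
      · simp) ⟨Equiv.swap a b, fun _ => rfl⟩ (by
      rw [Equiv.Perm.sign_swap hab, ← Finset.prod_subset (Finset.subset_univ {a, b, c}) fun r _ hr => by
        simp only [Finset.mem_insert, Finset.mem_singleton, not_or] at hr
        simp [hr.1, hr.2.1, hr.2.2],
        Finset.prod_insert (by simp [hab, hac]), Finset.prod_pair hbc]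
      simp only [if_true, hab.symm, hbc.symm, hac.symm, if_false]
      push_cast
      linear_combination hs)
  have hna : ∀ y, act n y b = s * y a := fun y => by have := hnx y a; simpa using this
  have hnb : ∀ y, act n y a = σ s * y b := fun y => by have := hnx y b; simpa [hab.symm] using this
  have hnc : ∀ y, act n y c = -y c := fun y => by
    have := hnx y c; simpa [Equiv.swap_apply_of_ne_of_ne hac.symm hbc.symm, hac.symm, hbc.symm] using this
  have hno : ∀ y r, r ≠ a → r ≠ b → r ≠ c → act n y r = y r := fun y r h1 h2' h3 => by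
    have := hnx y r; simpa [Equiv.swap_apply_of_ne_of_ne h1 h2', h1, h2', h3] using this
  have hz2 : z * z = 1 := gl_ext fun y => funext fun r => by
    rw [act_mul, hzx, hzx, act_one]; split_ifs <;> simp
  have hn2 : n * n = 1 := gl_ext fun y => funext fun r => by
    rw [act_mul, act_one]
    rcases eq_or_ne r a with rfl | h1
    · rw [hnb, hna, ← mul_assoc, mul_comm (σ s), hs, one_mul]
    rcases eq_or_ne r b with rfl | h2'
    · rw [hna, hnb, ← mul_assoc, hs, one_mul]
    rcases eq_or_ne r c with rfl | h3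
    · rw [hnc, hnc, neg_neg]
    · rw [hno _ r h1 h2' h3, hno _ r h1 h2' h3]
  -- minus vectors of `n` are short
  have hminus : ∀ y, act n y = -y → ∀ r, r ≠ a → r ≠ b → r ≠ c → y r = 0 := fun y hy r h1 h2' h3 => by
    have := congrFun hy r
    rw [hno y r h1 h2' h3, Pi.neg_apply] at this
    have h4 : (2 : F) * y r = 0 := by linear_combination this
    exact (mul_eq_zero.1 h4).resolve_left h2
  obtain ⟨r₀, hr₀a, hr₀b, hr₀c⟩ : ∃ r₀, r₀ ≠ a ∧ r₀ ≠ b ∧ r₀ ≠ c := by
    obtain ⟨r, -, hr⟩ := Finset.exists_mem_notMem_of_card_lt_card (s := ({a, b, c} : Finset (Fin 6)))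
      (t := Finset.univ) (by have := Finset.card_le_three (a := a) (b := b) (c := c); simp; omega)
    simp only [Finset.mem_insert, Finset.mem_singleton, not_or] at hr
    exact ⟨r, hr⟩
  -- a vector fixed by both involutions
  let L : (Fin 6 → F) →ₗ[F] (Fin 4 → F) := LinearMap.pi ![LinearMap.proj i, LinearMap.proj j,
    LinearMap.proj c ∘ₗ act g⁻¹, LinearMap.proj b ∘ₗ act g⁻¹ - s • (LinearMap.proj a ∘ₗ act g⁻¹)]
  obtain ⟨f, hf, hf0⟩ := Submodule.exists_mem_ne_zero_of_ne_bot (p := LinearMap.ker L) fun hbot => by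
    have := LinearMap.finrank_le_finrank_of_injective (LinearMap.ker_eq_bot.1 hbot)
    simp only [Module.finrank_fin_fun] at this
    omega
  rw [LinearMap.mem_ker] at hf
  have hfi : f i = 0 := by simpa [L] using congrFun hf 0
  have hfj : f j = 0 := by simpa [L] using congrFun hf 1
  have hfc : act g⁻¹ f c = 0 := by simpa [L] using congrFun hf 2
  have hfb : act g⁻¹ f b = s * act g⁻¹ f a := by simpa [L, sub_eq_zero] using congrFun hf 3
  have hzf : act z f = f := funext fun r => by
    rw [hzx]
    split_ifs with h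
    · rcases h with rfl | rfl <;> simp [hfi, hfj]
    · rw [one_mul]
  have hnf : act n (act g⁻¹ f) = act g⁻¹ f := funext fun r => by
    rcases eq_or_ne r a with rfl | h1
    · rw [hnb, hfb, ← mul_assoc, mul_comm (σ s), hs, one_mul]
    rcases eq_or_ne r b with rfl | h2'
    · rw [hna, hfb]
    rcases eq_or_ne r c with rfl | h3
    · rw [hnc, hfc, neg_zero]
    · rw [hno _ r h1 h2' h3]
  have hwf : act (g * n * g⁻¹) f = f := by rw [act_mul, act_mul, hnf, act_act_inv]
  let Fx : Subgroup (GL (Fin 6) F) :=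
    { carrier := {m | act m f = f}
      one_mem' := act_one f
      mul_mem' := fun {x y} hx hy => by simp only [Set.mem_ofPred_eq] at *; rw [act_mul, hy, hx]
      inv_mem' := fun {x} hx => by
        simp only [Set.mem_ofPred_eq] at *
        conv_lhs => rw [← hx]
        rw [act_inv_act] }
  rcases dihedral_dichotomy (P := M ⊓ Fx) ⟨hz, hzf⟩ ⟨M.mul_mem (M.mul_mem hg hn) (M.inv_mem hg), hwf⟩ hz2
    (by rw [show g * n * g⁻¹ * (g * n * g⁻¹) = g * (n * n) * g⁻¹ by group, hn2, mul_one, mul_inv_cancel])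
    (isOfFinOrder_of_finite _) with ⟨u, ⟨hu, -⟩, he⟩ | ⟨c₀, ⟨hc₀, hc₀f⟩, hc1, hc2, hcz, hcw⟩
  · -- odd order
    exfalso
    have hh : g⁻¹ * u ∈ M := M.mul_mem (M.inv_mem hg) hu
    have hconj : g⁻¹ * u * z = n * (g⁻¹ * u) := by
      rw [mul_inv_eq_iff_eq_mul] at he
      rw [mul_assoc, he]; group
    have hzero : act (g⁻¹ * u) (Pi.single i 1) r₀ = 0 := by
      refine hminus _ ?_ r₀ hr₀a hr₀b hr₀c
      rw [← act_mul, ← hconj, act_mul, ← map_neg]
      congr 1
      funext r
      rw [hzx, Pi.neg_apply]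
      rcases eq_or_ne r i with rfl | hri
      · simp
      · simp [hri]
    obtain ⟨π, δ, hδ, hcol, hx, -⟩ := C.mono_data hh (C.mono_of_zero H hh hzero)
    obtain ⟨r, hr⟩ := π.surjective a
    have e := congrArg (fun m => act m (Pi.single r 1) a) hconj
    rw [act_mul (g⁻¹ * u) z, act_mul n (g⁻¹ * u), hnb, hcol r, Pi.smul_apply, hr,
      Pi.single_eq_of_ne hab.symm, smul_zero, mul_zero, ← hr, hx, hzx, Pi.single_eq_same, mul_one] at e
    exact mul_ne_zero (C.norm_one_ne_zero (hδ r)) (by split_ifs <;> simp) e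
  · -- the central involution
    obtain ⟨r₁, hr₁i, hr₁j⟩ : ∃ r, r ≠ i ∧ r ≠ j := by
      obtain ⟨r, -, hr⟩ := Finset.exists_mem_notMem_of_card_lt_card (s := ({i, j} : Finset (Fin 6)))
        (t := Finset.univ) (by have := Finset.card_le_two (a := i) (b := j); simp; omega)
      simp only [Finset.mem_insert, Finset.mem_singleton, not_or] at hr
      exact ⟨r, hr⟩
    have hczv : ∀ k, k = i ∨ k = j → ∀ r, r ≠ i → r ≠ j → act c₀ (Pi.single k 1) r = 0 := by
      intro k hk r h1 h1'
      have e := congrFun (congrArg (fun m => act m (Pi.single k 1)) hcz) r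
      simp only [act_mul, hzx _ r, h1, h1', or_self, if_false, one_mul] at e
      have hzk : act z (Pi.single k 1) = -Pi.single k 1 := funext fun x => by
        rw [hzx, Pi.neg_apply]
        rcases eq_or_ne x k with rfl | hxk
        · rw [if_pos hk]; simp
        · simp [hxk]
      rw [hzk, map_neg, Pi.neg_apply] at e
      have h4 : (2 : F) * act c₀ (Pi.single k 1) r = 0 := by linear_combination -e
      exact (mul_eq_zero.1 h4).resolve_left h2
    have hcm : IsMono c₀ := C.mono_of_zero H hc₀ (hczv i (Or.inl rfl) r₁ hr₁i hr₁j)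
    have hc' : g⁻¹ * c₀ * g ∈ M := M.mul_mem (M.mul_mem (M.inv_mem hg) hc₀) hg
    have hcn : g⁻¹ * c₀ * g * n = n * (g⁻¹ * c₀ * g) := by
      have := congrArg (fun m => g⁻¹ * m * g) hcw
      calc g⁻¹ * c₀ * g * n = g⁻¹ * (c₀ * (g * n * g⁻¹)) * g := by group
        _ = g⁻¹ * (g * n * g⁻¹ * c₀) * g := this
        _ = n * (g⁻¹ * c₀ * g) := by group
    have hnec : act n (Pi.single c 1) = -Pi.single c 1 := funext fun r => by
      rw [Pi.neg_apply]
      rcases eq_or_ne r a with rfl | h1
      · rw [hnb]; simp [hbc, hac]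
      rcases eq_or_ne r b with rfl | h2'
      · rw [hna]; simp [hac, hbc]
      rcases eq_or_ne r c with rfl | h3
      · rw [hnc]
      · rw [hno _ r h1 h2' h3]; simp [h3]
    have hcc : ∀ r, r ≠ a → r ≠ b → r ≠ c → act (g⁻¹ * c₀ * g) (Pi.single c 1) r = 0 :=
      hminus _ (by rw [← act_mul, ← hcn, act_mul, hnec, map_neg])
    obtain ⟨π', δ₀, hδ₀, hcol', hx', -⟩ := C.mono_data hc' (C.mono_of_zero H hc' (hcc r₀ hr₀a hr₀b hr₀c))
    have hsm : act n (act (g⁻¹ * c₀ * g) (Pi.single c 1)) = -act (g⁻¹ * c₀ * g) (Pi.single c 1) := by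
      rw [← act_mul, ← hcn, act_mul, hnec, map_neg]
    have hπc : π' c = c := by
      by_contra hne
      rcases eq_or_ne (π' c) a with h1 | h1
      · have e := congrFun hsm b
        rw [hna, hcol', Pi.neg_apply, Pi.smul_apply, Pi.smul_apply, h1, Pi.single_eq_same,
          Pi.single_eq_of_ne hab.symm, smul_zero, neg_zero, smul_eq_mul, mul_one] at e
        exact mul_ne_zero (C.norm_one_ne_zero hs) (C.norm_one_ne_zero (hδ₀ c)) e
      rcases eq_or_ne (π' c) b with h2' | h2'
      · have e := congrFun hsm a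
        rw [hnb, hcol', Pi.neg_apply, Pi.smul_apply, Pi.smul_apply, h2', Pi.single_eq_same,
          Pi.single_eq_of_ne hab, smul_zero, neg_zero, smul_eq_mul, mul_one] at e
        exact mul_ne_zero ((map_ne_zero σ).2 (C.norm_one_ne_zero hs)) (C.norm_one_ne_zero (hδ₀ c)) e
      · have e := hcc (π' c) h1 h2' hne
        rw [hcol'] at e
        simp at e
        exact C.norm_one_ne_zero (hδ₀ c) e
    obtain ⟨π, δ₁, -, -, hx, hdet⟩ := C.mono_data hc₀ hcm
    obtain ⟨ε, hε⟩ : ∃ ε, ε = δ₀ c := ⟨_, rfl⟩
    have hxc : act c₀ (act g (Pi.single c 1)) = ε • act g (Pi.single c 1) := by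
      have := congrArg (act g) (hcol' c)
      rwa [hπc, act_mul, act_mul, act_act_inv, map_smul, ← hε] at this
    have hc₀2 : ∀ y, act c₀ (act c₀ y) = y := fun y => by rw [← act_mul, hc2, act_one]
    have hε2 : ε * ε = 1 := by
      have := congrFun (hc₀2 (act g (Pi.single c 1))) 0
      rw [hxc, map_smul, hxc, smul_smul, Pi.smul_apply, smul_eq_mul] at this
      exact mul_right_cancel₀ (hfull c 0) (by rw [one_mul]; exact this)
    have hε' : ε = 1 ∨ ε = -1 := mul_self_eq_one_iff.1 hε2
    -- normalise the sign inside `M`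
    obtain ⟨e, he, -, hex⟩ := C.exists_diag (fun _ => ε) (fun _ => by rcases hε' with h | h <;> simp [h])
      (by rcases hε' with h | h <;> norm_num [h])
    obtain ⟨δ, hδdef⟩ : ∃ δ : Fin 6 → F, δ = fun r => ε * δ₁ r := ⟨_, rfl⟩
    have hd : ∀ y r, act (e * c₀) y (π r) = δ r * y r := fun y r => by
      rw [act_mul, hex, hx, hδdef]; ring
    have hdx : act (e * c₀) (act g (Pi.single c 1)) = act g (Pi.single c 1) := funext fun r => by
      rw [act_mul, hxc, hex, Pi.smul_apply, smul_eq_mul, ← mul_assoc, hε2, one_mul]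
    have hed : ∀ y, act e y = ε • y := fun y => funext fun r => by rw [hex]; rfl
    have hdd : ∀ y, act (e * c₀) (act (e * c₀) y) = y := fun y => by
      rw [act_mul, act_mul, hed, hed, map_smul, smul_smul, hε2, one_smul, hc₀2]
    have hd' : ∀ y r, act (g⁻¹ * (e * c₀) * g) y (π' r) = ε * δ₀ r * y r := fun y r => by
      have e1 : act (g⁻¹ * (e * c₀) * g) y = ε • act (g⁻¹ * c₀ * g) y := by
        rw [act_mul, act_mul, act_mul, hed, map_smul, act_mul, act_mul]
      rw [e1, Pi.smul_apply, smul_eq_mul, hx']; ring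
    have hinv : ∀ r, π (π r) = r := fun r => by
      by_contra hne
      have e1 := congrFun (hdd (Pi.single r 1)) (π (π r))
      rw [hd, hd, Pi.single_eq_same, mul_one, Pi.single_eq_of_ne hne] at e1
      have hd0 : ∀ r, δ r ≠ 0 := fun r h0 => hfull c (π r) (by
        rw [← congrFun hdx (π r), hd, h0, zero_mul])
      exact mul_ne_zero (hd0 _) (hd0 _) e1
    have hδx : ∀ r, δ r = act g (Pi.single c 1) (π r) / act g (Pi.single c 1) r := fun r => by
      rw [eq_div_iff (hfull c r), ← hd, hdx]
    have hsgn : Equiv.Perm.sign π = 1 := by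
      have h6 : ∏ r, δ r = 1 := by
        simp only [hδx, Finset.prod_div_distrib]
        rw [Equiv.prod_comp π, div_self (Finset.prod_ne_zero_iff.2 fun r _ => hfull c r)]
      rw [hδdef, Finset.prod_mul_distrib, Finset.prod_const, Finset.card_univ, Fintype.card_fin,
        show ε ^ 6 = 1 by rcases hε' with h | h <;> norm_num [h], one_mul] at h6
      rw [h6, mul_one] at hdet
      rcases Int.units_eq_one_or (Equiv.Perm.sign π) with h | h
      · exact h
      · rw [h] at hdet; exact absurd (by simpa using hdet) hne1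
    have hπ1 : π ≠ 1 := fun h => by
      have h1 : ∀ y, act (e * c₀) y = y := fun y => funext fun r => by
        have e1 := hd y r
        rwa [h, Equiv.Perm.one_apply, hδx, h, Equiv.Perm.one_apply, div_self (hfull c r), one_mul] at e1
      rcases hε' with h' | h'
      · refine hc1 (gl_ext fun y => ?_)
        have := h1 y
        rw [act_mul, hed, h', one_smul] at this
        rw [act_one, this]
      · have e1 := h1 f
        rw [act_mul, hed, show act c₀ f = f from hc₀f, h'] at e1
        refine hf0 (funext fun r => ?_)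
        have e2 : -f r = f r := by simpa using congrFun e1 r
        exact (mul_eq_zero.1 (show (2 : F) * f r = 0 by linear_combination -e2)).resolve_left h2
    have hπfix := Six.even_involution hinv hπ1 hsgn
    have hpij : (π i = i ∧ π j = j) ∨ (π i = j ∧ π j = i) := by
      have key : ∀ k, k = i ∨ k = j → π k = i ∨ π k = j := fun k hk => by
        by_contra hno; push Not at hno
        have e1 := hd (Pi.single k 1) k
        rw [act_mul, hex, hczv k hk _ hno.1 hno.2, mul_zero, Pi.single_eq_same, mul_one] at e1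
        exact hfull c (π k) (by rw [← congrFun hdx (π k), hd, ← e1, zero_mul])
      rcases key i (Or.inl rfl) with h1 | h1
      · refine Or.inl ⟨h1, (key j (Or.inr rfl)).resolve_left fun h => hij ?_⟩
        exact (π.injective (h.trans h1.symm)).symm
      · exact Or.inr ⟨h1, (key j (Or.inr rfl)).resolve_right fun h => hij (π.injective (h1.trans h.symm))⟩
    -- the conjugate
    obtain ⟨δ', hδ'⟩ : ∃ δ' : Fin 6 → F, δ' = fun r => ε * δ₀ r := ⟨_, rfl⟩
    have hd'' : ∀ y r, act (g⁻¹ * (e * c₀) * g) y (π' r) = δ' r * y r := fun y r => by rw [hd', hδ']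
    have hdd' : ∀ y, act (g⁻¹ * (e * c₀) * g) (act (g⁻¹ * (e * c₀) * g) y) = y := fun y => by
      rw [act_mul (g⁻¹ * (e * c₀)) g, act_mul (g⁻¹ * (e * c₀)) g y, act_mul g⁻¹, act_mul g⁻¹ (e * c₀),
        act_act_inv, hdd, act_inv_act]
    have hδ0 : ∀ r, δ' r ≠ 0 := fun r => by
      rw [hδ']; exact mul_ne_zero (by rcases hε' with h | h <;> simp [h]) (C.norm_one_ne_zero (hδ₀ r))
    have hinv' : ∀ r, π' (π' r) = r := fun r => by
      by_contra hne
      have e1 := congrFun (hdd' (Pi.single r 1)) (π' (π' r))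
      rw [hd'', hd'', Pi.single_eq_same, mul_one, Pi.single_eq_of_ne hne] at e1
      exact mul_ne_zero (hδ0 _) (hδ0 _) e1
    have hfix' : ∀ r, π' r = r → δ' r = 1 := fun r hr => by
      have e1 : act (g⁻¹ * (e * c₀) * g) (Pi.single r 1) = δ' r • Pi.single r 1 := funext fun x => by
        obtain ⟨x', rfl⟩ := π'.surjective x
        rw [hd'', Pi.smul_apply, smul_eq_mul]
        rcases eq_or_ne x' r with rfl | hne
        · rw [hr]
        · have : π' x' ≠ r := fun h => hne (π'.injective (h.trans hr.symm))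
          simp [hne, this]
      have e2 := congrArg (act g) e1
      rw [act_mul, act_mul, act_act_inv, map_smul] at e2
      obtain ⟨k, hk⟩ := Finset.card_pos.1 (show 0 < _ by rw [hπfix]; exact two_pos)
      simp only [Finset.mem_filter, Finset.mem_univ, true_and] at hk
      have e3 := congrFun e2 k
      have hk1 : δ k = 1 := by
        rw [hδx, hk, div_self (hfull c k)]
      rw [show act (e * c₀) (act g (Pi.single r 1)) k = act g (Pi.single r 1) k by
        have := hd (act g (Pi.single r 1)) k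
        rwa [hk, hk1, one_mul] at this, Pi.smul_apply, smul_eq_mul] at e3
      exact mul_right_cancel₀ (hfull r k) (by rw [one_mul, ← e3])
    have hπ'1 : π' ≠ 1 := fun h => by
      have h1 : g⁻¹ * (e * c₀) * g = 1 := gl_ext fun y => funext fun r => by
        have e1 := hd'' y r
        rw [h, Equiv.Perm.one_apply, hfix' r (by rw [h]; rfl), one_mul] at e1
        rw [act_one]; exact e1
      have h2' : e * c₀ = 1 := by
        have := congrArg (fun m => g * m * g⁻¹) h1
        simpa [mul_assoc] using this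
      obtain ⟨k, -, hk⟩ := Finset.exists_mem_notMem_of_card_lt_card
        (s := Finset.univ.filter fun r => π r = r) (t := Finset.univ) (by rw [hπfix]; simp)
      simp only [Finset.mem_filter, Finset.mem_univ, true_and] at hk
      have e1 := hd (Pi.single k 1) k
      rw [h2', act_one, Pi.single_eq_of_ne hk, Pi.single_eq_same, mul_one] at e1
      exact hfull c (π k) (by rw [← congrFun hdx (π k), hd, ← e1, zero_mul])
    have hsgn' : Equiv.Perm.sign π' = 1 := by
      obtain ⟨δ'', hδ''⟩ : ∃ δ'' : Fin 6 → F, δ'' = δ' := ⟨_, rfl⟩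
      have hm : g⁻¹ * (e * c₀) * g ∈ M := M.mul_mem (M.mul_mem (M.inv_mem hg) (M.mul_mem he hc₀)) hg
      have hpair : ∀ r, δ' r * δ' (π' r) = 1 := fun r => by
        have e1 := congrFun (hdd' (Pi.single r 1)) (π' (π' r))
        rw [hd'', hd'', Pi.single_eq_same, mul_one, hinv', Pi.single_eq_same] at e1
        rw [mul_comm, e1]
      have h6 : ∏ r, δ' r = 1 := Finset.prod_involution (fun r _ => π' r) (fun r _ => hpair r)
        (fun r _ hr h => hr (hfix' r h)) (fun r _ => Finset.mem_univ _) fun r _ => hinv' r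
      obtain ⟨g₂, -, hg₂, hx₂, hdet₂⟩ := C.exists_mono π' δ' fun r => by
        rw [hδ']
        rcases hε' with h | h <;> simp [h, hδ₀ r]
      have hgg : g₂ = g⁻¹ * (e * c₀) * g := gl_ext fun y => funext fun r => by
        obtain ⟨r', rfl⟩ := π'.surjective r
        rw [hx₂, hd'']
      rw [hgg, Monom.mem_specialLinear_iff.1 (C.le hm).2, h6, mul_one] at hdet₂
      rcases Int.units_eq_one_or (Equiv.Perm.sign π') with h | h
      · exact h
      · rw [h] at hdet₂; exact absurd (by simpa using hdet₂.symm) hne1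
    have hπ'fix := Six.even_involution hinv' hπ'1 hsgn'
    have hcomm : ∀ y, act (g⁻¹ * (e * c₀) * g) (act n y) = act n (act (g⁻¹ * (e * c₀) * g) y) := fun y => by
      have h1 : ∀ y, act (g⁻¹ * (e * c₀) * g) y = ε • act (g⁻¹ * c₀ * g) y := fun y => by
        rw [act_mul, act_mul, act_mul, hed, map_smul, act_mul, act_mul]
      rw [h1, h1, map_smul, ← act_mul, hcn, act_mul]
    have hπab : π' a = b := by
      by_contra hne
      -- then three points are fixed
      have e1 := hcomm (Pi.single a 1)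
      have e2 := congrFun e1 (π' b)
      have hna1 : act n (Pi.single a 1) = s • Pi.single b 1 := funext fun r => by
        rcases eq_or_ne r a with rfl | h1
        · rw [hnb]; simp [hab, hab.symm]
        rcases eq_or_ne r b with rfl | h2'
        · rw [hna]; simp
        rcases eq_or_ne r c with rfl | h3
        · rw [hnc]; simp [h1, h2']
        · rw [hno _ r h1 h2' h3]; simp [h1, h2']
      rw [hna1, map_smul, Pi.smul_apply, hd'', Pi.single_eq_same, smul_eq_mul, mul_one] at e2
      have hnz : act n (act (g⁻¹ * (e * c₀) * g) (Pi.single a 1)) (π' b) ≠ 0 :=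
        e2 ▸ mul_ne_zero (C.norm_one_ne_zero hs) (hδ0 b)
      have hsupp : ∀ x, x ≠ π' a → act (g⁻¹ * (e * c₀) * g) (Pi.single a 1) x = 0 := fun x hx => by
        obtain ⟨x', rfl⟩ := π'.surjective x
        rw [hd'', Pi.single_eq_of_ne (fun h => hx (by rw [h])), mul_zero]
      have hbc' : π' b ≠ c := fun h => hbc (π'.injective (h.trans hπc.symm))
      have hac' : π' a ≠ c := fun h => hac (π'.injective (h.trans hπc.symm))
      rcases eq_or_ne (π' b) a with h1 | h1
      · exact hne (by rw [← h1, hinv'])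
      rcases eq_or_ne (π' b) b with h2' | h2'
      · have hbad : π' a = a := by
          rw [h2'] at hnz
          by_contra ha
          exact hnz (by rw [hna, hsupp a (Ne.symm ha), mul_zero])
        have hsub : ({a, b, c} : Finset (Fin 6)) ⊆ Finset.univ.filter fun r => π' r = r := by
          simp [Finset.insert_subset_iff, hbad, h2', hπc]
        have := Finset.card_le_card hsub
        rw [hπ'fix, Finset.card_insert_of_notMem (by simp [hab, hac]), Finset.card_pair hbc] at this
        omega
      · rw [hno _ (π' b) h1 h2' hbc', hsupp (π' b) fun h => hab (π'.injective h).symm] at hnz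
        exact hnz rfl
    refine ⟨e * c₀, M.mul_mem he hc₀, π, π', δ, δ', hd, hdx, hinv, hπfix, hpij, hd'', hinv', hπ'fix, hπab, ?_⟩
    have e1 := congrFun (hcomm (Pi.single a 1)) a
    have hba : π' b = a := by rw [← hπab, hinv']
    have hna1 : act n (Pi.single a 1) b = s := by rw [hna, Pi.single_eq_same, mul_one]
    rw [show act (g⁻¹ * (e * c₀) * g) (act n (Pi.single a 1)) a = δ' b * s by
        have := hd'' (act n (Pi.single a 1)) b; rwa [hba, hna1] at this, hnb,
      show act (g⁻¹ * (e * c₀) * g) (Pi.single a 1) b = δ' a by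
        have := hd'' (Pi.single a 1) a; rwa [hπab, Pi.single_eq_same, mul_one] at this] at e1
    have hprod : δ' a * δ' b = 1 := by
      have e3 := congrFun (hdd' (Pi.single a 1)) (π' b)
      rw [hd'', show act (g⁻¹ * (e * c₀) * g) (Pi.single a 1) b = δ' a by
        have := hd'' (Pi.single a 1) a; rwa [hπab, Pi.single_eq_same, mul_one] at this, hba,
        Pi.single_eq_same] at e3
      linear_combination e3
    linear_combination (-(δ' a) ^ 2) * hs + s ^ 2 * hprod - s * δ' a * e1

/-- odd `q`: no such group -/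
theorem not_monoOrFull_odd (h2 : (2 : F) ≠ 0) {g : GL (Fin 6) F} (hg : g ∈ M) (hgm : ¬ IsMono g) : False := by
  obtain ⟨θ, hθ, -, hθ2, -, -⟩ := exists_root_ne C.hq
  let sv : Fin 2 → F := ![1, θ]
  have hsv : ∀ x, sv x * σ (sv x) = 1 := by intro x; fin_cases x <;> simp [sv, hθ]
  have hsvi : ∀ x y, sv x ^ 2 = sv y ^ 2 → x = y := by
    intro x y h
    fin_cases x <;> fin_cases y <;> simp [sv, -sq_eq_one_iff, hθ2, Ne.symm hθ2] at h ⊢
  let P := (Finset.univ : Finset (Fin 6 × Fin 6)).filter fun p => p.1 ≠ p.2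
  let A := (Finset.univ : Finset (Fin 6 × Fin 6)).filter fun p => p.1 ≠ p.2 ∧ p.1 ≠ 0 ∧ p.2 ≠ 0
  let I := P ×ˢ A ×ˢ (Finset.univ : Finset (Fin 2))
  have hP : P.card = 30 := Six.card_pairs
  have hA : A.card = 20 := Six.card_others 0
  have hI : I.card = 1200 := by
    simp only [I, Finset.card_product, hP, hA, Finset.card_univ, Fintype.card_fin, Nat.reduceMul]
  have hmem : ∀ t : I, t.1.1.1 ≠ t.1.1.2 ∧ t.1.2.1.1 ≠ t.1.2.1.2 ∧ t.1.2.1.1 ≠ 0 ∧ t.1.2.1.2 ≠ 0 := fun t => by
    have h1 := t.2
    simp only [I, P, A, Finset.mem_product, Finset.mem_filter, Finset.mem_univ, true_and, and_true] at h1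
    exact h1
  have hdata := fun t : I => C.exists_double H h2 hg hgm (i := t.1.1.1) (j := t.1.1.2) (a := t.1.2.1.1)
    (b := t.1.2.1.2) (c := 0) (hmem t).1 (hmem t).2.1 (hmem t).2.2.1 (hmem t).2.2.2 (hsv t.1.2.2)
  choose d _ π π' δ δ' hd hdx hinv hfix hpres hd' hinv' hfix' hab hsq using hdata
  have huniq : ∀ t t', π t = π t' → d t = d t' := fun t t' h => gl_ext fun y => funext fun r => by
    obtain ⟨r', rfl⟩ := (π t).surjective r
    have e : ∀ (u : I), π u = π t → δ u r' = act g (Pi.single 0 1) (π t r') / act g (Pi.single 0 1) r' :=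
      fun u hu => by
        rw [eq_div_iff (C.full_of_not_mono H hg hgm 0 r'), ← hd, hdx, hu]
    rw [hd, e t rfl, h, hd, e t' h.symm, h]
  let D := (Finset.univ : Finset (Equiv.Perm (Fin 6))).filter fun π =>
    (∀ i, π (π i) = i) ∧ (Finset.univ.filter fun i => π i = i).card = 2
  have hle : (Finset.univ : Finset I).card ≤ 24 * D.card := by
    refine Finset.card_le_mul_card_image_of_maps_to (f := π) (fun t _ => by simp [D, hinv t, hfix t]) 24
      fun p hp => ?_
    rcases Finset.eq_empty_or_nonempty ((Finset.univ : Finset I).filter fun t => π t = p) with he | ⟨t₀, ht₀⟩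
    · rw [he]; simp
    simp only [Finset.mem_filter, Finset.mem_univ, true_and] at ht₀
    let Pres := (Finset.univ : Finset (Fin 6 × Fin 6)).filter fun x => x.1 ≠ x.2 ∧
      ((p x.1 = x.1 ∧ p x.2 = x.2) ∨ (p x.1 = x.2 ∧ p x.2 = x.1))
    let Mov := (Finset.univ.filter fun i => π' t₀ i = i)ᶜ
    have hsame : ∀ t, π t = p → π' t = π' t₀ ∧ δ' t = δ' t₀ := fun t ht => by
      have e := huniq t t₀ (ht.trans ht₀.symm)
      have hval : ∀ r, act (g⁻¹ * d t₀ * g) (Pi.single r 1) (π' t r) = δ' t r := fun r => by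
        rw [← e, hd', Pi.single_eq_same, mul_one]
      have h0 : ∀ u r, δ' u r ≠ 0 := fun u r h0 => by
        have h1 := hinv' u r
        have h9 : act (g⁻¹ * d u * g) (Pi.single r 1) = 0 := funext fun x => by
          obtain ⟨x', rfl⟩ := (π' u).surjective x
          rw [hd']
          rcases eq_or_ne x' r with rfl | hne
          · rw [h0, zero_mul]; rfl
          · simp [hne]
        have := congrArg (act (g⁻¹ * d u * g)⁻¹) h9
        rw [act_inv_act, map_zero] at this
        exact (one_ne_zero : (1 : F) ≠ 0) (by simpa using congrFun this r)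
      have hπ : π' t = π' t₀ := Equiv.ext fun r => by
        by_contra hne
        obtain ⟨r', hr'⟩ := (π' t₀).surjective (π' t r)
        have h1 := hval r
        rw [← hr', hd', Pi.single_eq_of_ne (fun h => hne (by rw [← hr', h])), mul_zero] at h1
        exact h0 t r h1.symm
      refine ⟨hπ, funext fun r => ?_⟩
      have h1 := hval r
      rw [hπ, hd', Pi.single_eq_same, mul_one] at h1
      exact h1.symm
    have hinj : ∀ t ∈ (Finset.univ : Finset I).filter fun t => π t = p,
        ∀ t' ∈ (Finset.univ : Finset I).filter fun t => π t = p,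
        (t.1.1, t.1.2.1.1) = (t'.1.1, t'.1.2.1.1) → t = t' := by
      intro t ht t' ht' h
      simp only [Finset.mem_filter, Finset.mem_univ, true_and] at ht ht'
      obtain ⟨h1, h2'⟩ := Prod.ext_iff.1 h
      dsimp only at h1 h2'
      have hb : t.1.2.1.2 = t'.1.2.1.2 := by
        rw [← hab t, ← hab t', (hsame t ht).1, (hsame t' ht').1, h2']
      have hsx : t.1.2.2 = t'.1.2.2 := hsvi _ _ (by
        rw [← hsq t, ← hsq t', (hsame t ht).2, (hsame t' ht').2, h2'])
      exact Subtype.ext (Prod.ext h1 (Prod.ext (Prod.ext h2' hb) hsx))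
    refine (Finset.card_le_card_of_injOn (t := Pres ×ˢ Mov) (fun t => (t.1.1, t.1.2.1.1)) (fun t ht => ?_)
      fun t ht t' ht' h => hinj t (Finset.mem_coe.1 ht) t' (Finset.mem_coe.1 ht') h).trans ?_
    · simp only [Finset.mem_coe, Finset.mem_filter, Finset.mem_univ, true_and] at ht
      refine Finset.mem_coe.2 (Finset.mem_product.2 ⟨?_, ?_⟩)
      · exact Finset.mem_filter.2 ⟨Finset.mem_univ _, (hmem t).1,
          ht ▸ hpres t⟩
      · simp only [Mov, Finset.mem_compl, Finset.mem_filter, Finset.mem_univ, true_and]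
        rw [← (hsame t ht).1, hab t]
        exact (hmem t).2.1.symm
    · rw [Finset.card_product, Finset.card_compl, hfix' t₀, Fintype.card_fin,
        Six.card_preserved (ht₀ ▸ hinv t₀) (ht₀ ▸ hfix t₀)]
  rw [Finset.card_univ, Fintype.card_coe, hI, show D.card = 45 from Six.card_doubles] at hle
  omega

omit H in
open scoped Classical in
theorem norm_roots_card : q + 1 ≤ (Finset.univ.filter fun a : F => a * σ a = 1).card := by
  have := C.hq.card_roots
  rw [← this, ← Finset.card_univ]
  refine Finset.card_le_card_of_injOn (fun z => ((z : Fˣ) : F)) (fun z _ => ?_) fun x _ y _ h =>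
    Subtype.ext (Units.ext h)
  simp only [Finset.mem_coe, Finset.mem_filter, Finset.mem_univ, true_and]
  exact C.hq.norm_one_iff.2 QSq.coe_norm

/-- even `q`: no such group -/
theorem not_monoOrFull_even (h2 : (2 : F) = 0) (hq4 : 4 ≤ q) {g : GL (Fin 6) F} (hg : g ∈ M) (hgm : ¬ IsMono g) :
    False := by
  classical
  have hfull := C.full_of_not_mono H hg hgm
  have hU5 : 5 ≤ (Finset.univ.filter fun a : F => a * σ a = 1).card := by
    have := C.norm_roots_card; omega
  set U := Finset.univ.filter fun a : F => a * σ a = 1 with hUdef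
  have hneg : (-1 : F) = 1 := by linear_combination -h2
  -- the transvection centre
  obtain ⟨s, hs, hs0, hs1, hs2⟩ : ∃ s, s * σ s = 1 ∧
      act g (Pi.single 0 1) 0 + s * act g (Pi.single 1 1) 0 ≠ 0 ∧
      act g (Pi.single 0 1) 1 + s * act g (Pi.single 1 1) 1 ≠ 0 ∧
      act g (Pi.single 0 1) 2 + s * act g (Pi.single 1 1) 2 ≠ 0 := by
    by_contra hno
    push Not at hno
    let B : Fin 6 → Finset F := fun r =>
      U.filter fun s => act g (Pi.single 0 1) r + s * act g (Pi.single 1 1) r = 0
    have h1 : ∀ r, (B r).card ≤ 1 := fun r => Finset.card_le_one.2 fun x hx y hy => by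
      simp only [B, Finset.mem_filter] at hx hy
      refine mul_right_cancel₀ (hfull 1 r) ?_
      linear_combination hx.2 - hy.2
    have hsub : U ⊆ B 0 ∪ B 1 ∪ B 2 := fun s hs => by
      have hs' := (Finset.mem_filter.1 hs).2
      simp only [B, Finset.mem_union, Finset.mem_filter, hs, true_and]
      by_contra hc
      push Not at hc
      exact hc.2 (hno s hs' hc.1.1 hc.1.2)
    have := (Finset.card_le_card hsub).trans ((Finset.card_union_le _ _).trans
      (Nat.add_le_add (Finset.card_union_le _ _) le_rfl))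
    have := h1 0; have := h1 1; have := h1 2
    omega
  obtain ⟨φ, hφ⟩ : ∃ φ : Fin 6 → F, φ = Pi.single 0 1 + s • Pi.single 1 1 := ⟨_, rfl⟩
  obtain ⟨u, hu⟩ : ∃ u, u = act g φ := ⟨_, rfl⟩
  have hur : ∀ r, u r = act g (Pi.single 0 1) r + s * act g (Pi.single 1 1) r := fun r => by
    rw [hu, hφ, map_add, map_smul]; rfl
  rw [← hur] at hs0 hs1 hs2
  obtain ⟨η, hη, hh2⟩ : ∃ η, η * σ η = 1 ∧ u 2 + σ η * u 3 ≠ 0 := by
    by_contra hno
    push Not at hno
    have hle : U.card ≤ 1 := Finset.card_le_one.2 fun x hx y hy => by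
      have h1 := hno x (Finset.mem_filter.1 hx).2
      have h2' := hno y (Finset.mem_filter.1 hy).2
      have h3 : u 3 ≠ 0 := fun e => hs2 (by linear_combination h1 - σ x * e)
      exact σ.injective (mul_right_cancel₀ h3 (by linear_combination h1 - h2'))
    omega
  obtain ⟨ν, hν⟩ : ∃ ν, ν = (u 2 + σ η * u 3) * σ (u 2 + σ η * u 3) := ⟨_, rfl⟩
  obtain ⟨θ, hθ, hh1, hh12⟩ : ∃ θ, θ * σ θ = 1 ∧ u 0 + σ θ * u 1 ≠ 0 ∧
      (u 0 + σ θ * u 1) * σ (u 0 + σ θ * u 1) ≠ ν := by
    by_contra hno
    push Not at hno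
    let B1 := U.filter fun x => u 0 + σ x * u 1 = 0
    let B2 := U.filter fun x => (u 0 + σ x * u 1) * σ (u 0 + σ x * u 1) = ν
    have h1 : B1.card ≤ 1 := Finset.card_le_one.2 fun x hx y hy => by
      simp only [B1, Finset.mem_filter] at hx hy
      exact σ.injective (mul_right_cancel₀ hs1 (by linear_combination hx.2 - hy.2))
    have h2' : B2.card ≤ 2 := by
      by_contra h3
      obtain ⟨x, hx, y, hy, w, hw, hxy, hxw, hyw⟩ := Finset.two_lt_card.1 (not_le.1 h3)
      have hquad : ∀ x ∈ B2, u 0 * σ (u 1) * (x * x) +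
          x * (u 0 * σ (u 0) + u 1 * σ (u 1) - ν) + σ (u 0) * u 1 = 0 := fun x hx => by
        simp only [B2, U, Finset.mem_filter, Finset.mem_univ, true_and] at hx
        have e := hx.2
        rw [map_add, map_mul, C.sigma_sigma] at e
        linear_combination x * e - (σ (u 0) * u 1 + x * u 1 * σ (u 1)) * hx.1
      have e1 : u 0 * σ (u 1) * (x + y) + (u 0 * σ (u 0) + u 1 * σ (u 1) - ν) = 0 :=
        (mul_eq_zero.1 (show (x - y) * _ = 0 by linear_combination hquad x hx - hquad y hy)).resolve_left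
          (sub_ne_zero.2 hxy)
      have e2 : u 0 * σ (u 1) * (x + w) + (u 0 * σ (u 0) + u 1 * σ (u 1) - ν) = 0 :=
        (mul_eq_zero.1 (show (x - w) * _ = 0 by linear_combination hquad x hx - hquad w hw)).resolve_left
          (sub_ne_zero.2 hxw)
      exact hyw (mul_left_cancel₀ (mul_ne_zero hs0 ((map_ne_zero σ).2 hs1)) (by linear_combination e1 - e2))
    have hsub : U ⊆ B1 ∪ B2 := fun x hx => by
      simp only [B1, B2, Finset.mem_union, Finset.mem_filter, hx, true_and]
      by_cases h : u 0 + σ x * u 1 = 0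
      · exact Or.inl h
      · exact Or.inr (hno x (Finset.mem_filter.1 hx).2 h)
    have := (Finset.card_le_card hsub).trans (Finset.card_union_le _ _)
    omega
  obtain ⟨φ₁, hφ₁⟩ : ∃ φ : Fin 6 → F, φ = ![1, θ, 0, 0, 0, 0] := ⟨_, rfl⟩
  obtain ⟨φ₂, hφ₂⟩ : ∃ φ : Fin 6 → F, φ = ![0, 0, 1, η, 0, 0] := ⟨_, rfl⟩
  have hp1 : ∀ y, herm σ y φ₁ = y 0 + σ θ * y 1 := fun y => by
    simp [herm, hφ₁, Fin.sum_univ_six]; ring
  have hp2 : ∀ y, herm σ y φ₂ = y 2 + σ η * y 3 := fun y => by
    simp [herm, hφ₂, Fin.sum_univ_six]; ring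
  obtain ⟨z, hz, -, hzx⟩ := C.exists_mono_mem (Equiv.swap 0 1 * Equiv.swap 2 3) ![θ, σ θ, η, σ η, 1, 1]
    (fun r => by
      have h1 : σ θ * σ (σ θ) = 1 := by rw [C.sigma_sigma, mul_comm, hθ]
      have h3 : σ η * σ (σ η) = 1 := by rw [C.sigma_sigma, mul_comm, hη]
      fin_cases r <;> simp [hθ, hη, h1, h3])
    ⟨_, fun _ => rfl⟩ (by
      rw [map_mul, Equiv.Perm.sign_swap (by decide), Equiv.Perm.sign_swap (by decide)]
      simp [Fin.prod_univ_six, hθ, mul_assoc, hη])
  have hzv : ∀ y, act z y = y + herm σ y φ₁ • φ₁ + herm σ y φ₂ • φ₂ := fun y => by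
    have e0 := hzx y 1; have e1 := hzx y 0; have e2 := hzx y 3; have e3 := hzx y 2
    have e4 := hzx y 4; have e5 := hzx y 5
    simp [Equiv.swap_apply_def] at e0 e1 e2 e3 e4 e5
    funext r
    simp only [Pi.add_apply, Pi.smul_apply, smul_eq_mul, hp1, hp2]
    rw [hφ₁, hφ₂]
    fin_cases r <;> simp [e0, e1, e2, e3, e4, e5]
    · linear_combination -y 0 * h2
    · linear_combination -y 1 * hθ - y 1 * h2
    · linear_combination -y 2 * h2
    · linear_combination -y 3 * hη - y 3 * h2
  obtain ⟨n, hn, -, hnx⟩ := C.exists_mono_mem (Equiv.swap 0 1) ![s, σ s, 1, 1, 1, 1]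
    (fun r => by
      have h1 : σ s * σ (σ s) = 1 := by rw [C.sigma_sigma, mul_comm, hs]
      fin_cases r <;> simp [hs, h1])
    ⟨_, fun _ => rfl⟩ (by
      rw [Equiv.Perm.sign_swap (by decide)]
      simp [Fin.prod_univ_six, hs, hneg])
  have hpφ : ∀ y, herm σ y φ = y 0 + σ s * y 1 := fun y => by
    simp [herm, hφ, Fin.sum_univ_six]; ring
  have hnv : ∀ y, act n y = y + herm σ y φ • φ := fun y => by
    have e0 := hnx y 1; have e1 := hnx y 0; have e2 := hnx y 3; have e3 := hnx y 2
    have e4 := hnx y 4; have e5 := hnx y 5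
    simp [Equiv.swap_apply_def] at e0 e1 e2 e3 e4 e5
    funext r
    simp only [Pi.add_apply, Pi.smul_apply, smul_eq_mul, hpφ]
    rw [hφ]
    fin_cases r <;> simp [e0, e1, e2, e3, e4, e5]
    · linear_combination -y 0 * h2
    · linear_combination -y 1 * hs - y 1 * h2
  have hwv : ∀ y, act (g * n * g⁻¹) y = y + herm σ y u • u := fun y => by
    rw [act_mul, act_mul, hnv, map_add, map_smul, act_act_inv, ← hu]
    congr 2
    rw [hu, ← mem_uiso.1 (C.iso hg), act_act_inv]
  have h11 : herm σ φ₁ φ₁ = 0 := by rw [hp1, hφ₁]; simp; linear_combination h2 + hθ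
  have h22 : herm σ φ₂ φ₂ = 0 := by rw [hp2, hφ₂]; simp; linear_combination h2 + hη
  have h12 : herm σ φ₁ φ₂ = 0 := by rw [hp2, hφ₁]; simp
  have h21 : herm σ φ₂ φ₁ = 0 := eq_zero_symm C.hU h12
  have huu : herm σ u u = 0 := by
    rw [hu, mem_uiso.1 (C.iso hg), hpφ, hφ]; simp; linear_combination h2 + hs
  have h2v : ∀ (a : F) (v : Fin 6 → F), a • v + a • v = 0 := fun a v => by
    rw [← add_smul, ← two_mul, h2, zero_mul, zero_smul]
  have hz2 : z * z = 1 := gl_ext fun y => by
    rw [act_mul, hzv, hzv y, act_one]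
    simp only [add_left C.hU, smul_left C.hU, h11, h22, h12, h21, mul_zero, add_zero]
    have := h2v (herm σ y φ₁) φ₁; have := h2v (herm σ y φ₂) φ₂
    linear_combination (norm := module) h2v (herm σ y φ₁) φ₁ + h2v (herm σ y φ₂) φ₂
  have hw2 : g * n * g⁻¹ * (g * n * g⁻¹) = 1 := gl_ext fun y => by
    rw [act_mul, hwv, hwv y, act_one]
    simp only [add_left C.hU, smul_left C.hU, huu, mul_zero, add_zero]
    linear_combination (norm := module) h2v (herm σ y u) u
  let W : Subgroup (GL (Fin 6) F) :=
    { carrier := {m | ∀ y, act m y - y ∈ Submodule.span F ({φ₁, φ₂, u} : Set (Fin 6 → F))}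
      one_mem' := fun y => by rw [act_one, sub_self]; exact Submodule.zero_mem _
      mul_mem' := fun {a b} ha hb y => by
        have := Submodule.add_mem _ (ha (act b y)) (hb y)
        rwa [sub_add_sub_cancel, ← act_mul] at this
      inv_mem' := fun {a} ha y => by
        have := Submodule.neg_mem _ (ha (act a⁻¹ y))
        rwa [act_act_inv, neg_sub] at this }
  have hzW : z ∈ W := fun y => by
    rw [hzv, add_assoc, add_sub_cancel_left]
    exact Submodule.add_mem _ (Submodule.smul_mem _ _ (Submodule.subset_span (by simp)))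
      (Submodule.smul_mem _ _ (Submodule.subset_span (by simp)))
  have hwW : g * n * g⁻¹ ∈ W := fun y => by
    rw [hwv, add_sub_cancel_left]
    exact Submodule.smul_mem _ _ (Submodule.subset_span (by simp))
  rcases dihedral_dichotomy (P := M ⊓ W) ⟨hz, hzW⟩ ⟨M.mul_mem (M.mul_mem hg hn) (M.inv_mem hg), hwW⟩ hz2 hw2
    (isOfFinOrder_of_finite _) with ⟨k, -, he⟩ | ⟨c, ⟨hc, hcW⟩, hc1, hc2, hcz, hcw⟩
  · -- odd order: the displacements have different dimensions
    have hkey : ∀ y, act k (herm σ y φ₁ • φ₁ + herm σ y φ₂ • φ₂) = herm σ (act k y) u • u := fun y => by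
      have e : act (g * n * g⁻¹) (act k y) = act k (act z y) := by rw [← he, act_mul, act_mul, act_inv_act]
      rw [hwv, hzv, map_add, map_add, add_assoc, add_left_cancel_iff] at e
      rw [map_add, e]
    have e0 := hkey (Pi.single 0 1)
    have e2 := hkey (Pi.single 2 1)
    simp [hp1, hp2] at e0 e2
    obtain ⟨l, hl⟩ : ∃ l, l = herm σ (act k (Pi.single 0 1)) u := ⟨_, rfl⟩
    obtain ⟨l', hl'⟩ : ∃ l, l = herm σ (act k (Pi.single 2 1)) u := ⟨_, rfl⟩
    rw [← hl] at e0; rw [← hl'] at e2
    have h4 : act k (l • φ₂ - l' • φ₁) = 0 := by rw [map_sub, map_smul, map_smul, e0, e2, smul_comm, sub_self]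
    have h5 := congrArg (act k⁻¹) h4
    rw [act_inv_act, map_zero] at h5
    have hl0 : l = 0 := by simpa [hφ₁, hφ₂] using congrFun h5 2
    rw [hl0, zero_smul] at e0
    have h6 := congrArg (act k⁻¹) e0
    rw [act_inv_act, map_zero] at h6
    simpa [hφ₁] using congrFun h6 0
  · -- the central involution
    have hDadd : ∀ y y', act c (y + y') + (y + y') = act c y + y + (act c y' + y') := fun y y' => by
      rw [map_add]; abel
    have hsub : ∀ v : Fin 6 → F, -v = v := fun v => funext fun r => by
      rw [Pi.neg_apply]; linear_combination -v r * h2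
    have hD : ∀ y, ∃ A B Δ : F, act c y + y = A • φ₁ + B • φ₂ + Δ • u := fun y => by
      obtain ⟨A, B, Δ, h⟩ := Submodule.mem_span_triple.1 (hcW y)
      exact ⟨A, B, Δ, by rw [h, sub_eq_add_neg, hsub]⟩
    have hiso : ∀ y y', herm σ (act c y + y) (act c y' + y') = 0 := fun y y' => by
      have e1 : herm σ (act c y) y' = herm σ y (act c y') := by
        conv_lhs => rw [← mem_uiso.1 (C.iso hc), ← act_mul c c, hc2, act_one]
      rw [add_left C.hU, add_right C.hU, add_right C.hU, mem_uiso.1 (C.iso hc), e1]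
      linear_combination (herm σ y y' + herm σ y (act c y')) * h2
    have hh1' : herm σ u φ₁ = u 0 + σ θ * u 1 := hp1 u
    have hh2' : herm σ u φ₂ = u 2 + σ η * u 3 := hp2 u
    have hD2 : ∀ y, ∃ A B : F, act c y + y = A • φ₁ + B • φ₂ := fun y => by
      obtain ⟨A, B, Δ, e⟩ := hD y
      refine ⟨A, B, ?_⟩
      obtain ⟨D, hDdef⟩ : ∃ D, D = act c y + y := ⟨_, rfl⟩
      rw [← hDdef] at e ⊢
      have e1 : herm σ D φ₁ = Δ * herm σ u φ₁ := by
        rw [e]; simp only [add_left C.hU, smul_left C.hU, h11, h21]; ring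
      have e2 : herm σ D φ₂ = Δ * herm σ u φ₂ := by
        rw [e]; simp only [add_left C.hU, smul_left C.hU, h12, h22]; ring
      have himg : act z D + D = act c (act z y + y) + (act z y + y) := by
        rw [hDdef, map_add, map_add, ← act_mul z c, ← hcz, act_mul]; abel
      have h0 := hiso (act z y + y) y
      rw [← himg, ← hDdef, hzv] at h0
      simp only [add_left C.hU, smul_left C.hU] at h0
      have hDD : herm σ D D = 0 := hDdef ▸ hiso y y
      have f1 : herm σ φ₁ D = σ (Δ * herm σ u φ₁) := by rw [← e1, herm' C.hU]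
      have f2 : herm σ φ₂ D = σ (Δ * herm σ u φ₂) := by rw [← e2, herm' C.hU]
      rw [hDD, e1, e2, f1, f2, map_mul, map_mul] at h0
      have h3 : Δ * σ Δ * (herm σ u φ₁ * σ (herm σ u φ₁) + herm σ u φ₂ * σ (herm σ u φ₂)) = 0 := by
        linear_combination h0
      rcases mul_eq_zero.1 h3 with h | h
      · have : Δ = 0 := by
          rcases mul_eq_zero.1 h with h | h
          · exact h
          · exact (map_eq_zero σ).1 h
        rw [e, this, zero_smul, add_zero]
      · exfalso
        apply hh12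
        rw [hν, ← hh1', ← hh2']
        linear_combination h - (herm σ u φ₂ * σ (herm σ u φ₂)) * h2
    have hAB : ∀ y A B, act c y + y = A • φ₁ + B • φ₂ →
        A * σ (herm σ u φ₁) + B * σ (herm σ u φ₂) = 0 := fun y A B e => by
      obtain ⟨D, hDdef⟩ : ∃ D, D = act c y + y := ⟨_, rfl⟩
      rw [← hDdef] at e
      obtain ⟨w, hw⟩ : ∃ w, w = g * n * g⁻¹ := ⟨_, rfl⟩
      rw [← hw] at hcw hwv
      obtain ⟨A', B', e'⟩ := hD2 (act w y + y)
      have himg : act w D + D = act c (act w y + y) + (act w y + y) := by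
        rw [hDdef, map_add, map_add, ← act_mul w c, ← hcw, act_mul]; abel
      have hu' : act w D + D = herm σ D u • u := by
        rw [hwv]; linear_combination (norm := module) h2v 1 D
      rw [← himg, hu'] at e'
      have := congrArg (fun v => herm σ v φ₁) e'
      simp only [add_left C.hU, smul_left C.hU, h11, h21, mul_zero, add_zero] at this
      have h0 := (mul_eq_zero.1 this).resolve_right (by rw [hh1']; exact hh1)
      rw [e, add_left C.hU, smul_left C.hU, smul_left C.hU, ← herm' C.hU u φ₁, ← herm' C.hU u φ₂] at h0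
      exact h0
    have hc4 : act c (Pi.single 4 1) 5 = 0 := by
      obtain ⟨A, B, e⟩ := hD2 (Pi.single 4 1)
      have := congrFun e 5
      simpa [hφ₁, hφ₂] using this
    obtain ⟨π, δ, hδ, hcol, -, -⟩ := C.mono_data hc (C.mono_of_zero H hc hc4)
    refine hc1 (gl_ext fun y => ?_)
    rw [Monom.eq_sum_single y, map_sum, map_sum]
    refine Finset.sum_congr rfl fun r _ => ?_
    rw [map_smul, map_smul, act_one]
    congr 1
    obtain ⟨A, B, e⟩ := hD2 (Pi.single r 1)
    have hrel := hAB _ A B e
    suffices hA : A = 0 by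
      rw [hA, zero_mul, zero_add] at hrel
      have hB := (mul_eq_zero.1 hrel).resolve_right ((map_ne_zero σ).2 (by rw [hh2']; exact hh2))
      rw [hA, hB, zero_smul, zero_smul, add_zero, add_eq_zero_iff_eq_neg, hsub] at e
      exact e
    by_contra hA
    have hB : B ≠ 0 := fun hB => by
      rw [hB, zero_mul, add_zero] at hrel
      exact hA ((mul_eq_zero.1 hrel).resolve_right ((map_ne_zero σ).2 (by rw [hh1']; exact hh1)))
    obtain ⟨x, hx, hxn⟩ := Finset.exists_mem_notMem_of_card_lt_card (s := ({π r, r} : Finset (Fin 6)))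
      (t := {0, 1, 2, 3}) (lt_of_le_of_lt Finset.card_le_two (by decide))
    simp only [Finset.mem_insert, Finset.mem_singleton, not_or] at hxn
    have e3 := congrFun e x
    rw [hcol, Pi.add_apply, Pi.smul_apply, Pi.single_eq_of_ne hxn.1, Pi.single_eq_of_ne hxn.2] at e3
    simp only [Finset.mem_insert, Finset.mem_singleton] at hx
    have hθ0 := C.norm_one_ne_zero hθ
    have hη0 := C.norm_one_ne_zero hη
    rcases hx with rfl | rfl | rfl | rfl <;> simp [hφ₁, hφ₂] at e3 <;> simp_all

omit H in
/-- a non-monomial element gives a mixed pair -/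
theorem exists_mixed_six (hq2 : q ≠ 2) {α : F} (hα : α * σ α = 1) (hα2 : α ^ 2 ≠ 1) (hα3 : α ^ 3 ≠ 1)
    {g₀ : GL (Fin 6) F} (hg₀ : g₀ ∈ M) (hgm₀ : ¬ IsMono g₀) : C.Mixed α := by
  classical
  have hdef : ∃ g ∈ M, ∃ a m, 2 ≤ (supp (act g (Pi.single a 1))).card ∧ act g (Pi.single a 1) m = 0 := by
    by_contra hno
    push Not at hno
    have H : C.MonoOrFull := fun g hg a h r => hno g hg a r h
    have hq := C.hq
    by_cases h2 : (2 : F) = 0
    · refine C.not_monoOrFull_even H h2 ?_ hg₀ hgm₀
      have h3 : 3 ≤ q := by have := hq.two_le; omega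
      by_contra h4
      have hq3 : q = 3 := by omega
      have := hq.cast_q
      rw [hq3] at this
      exact one_ne_zero (α := F) (by push_cast at this; linear_combination this - h2)
    · exact C.not_monoOrFull_odd H h2 hg₀ hgm₀
  obtain ⟨g, hg, a, m, h2a, hm⟩ := hdef
  have hgm : ¬ IsMono g := fun h => by have := h a; omega
  have hgi : ¬ IsMono g⁻¹ := fun h => hgm (by simpa using C.isMono_inv (M.inv_mem hg) h)
  obtain ⟨x, hx⟩ : ∃ x, x = act g (Pi.single a 1) := ⟨_, rfl⟩
  rw [← hx] at h2a hm
  have hinvcol : ∀ g ∈ M, ∀ k c, act g⁻¹ (Pi.single k 1) c = σ (act g (Pi.single c 1) k) := fun g hg k c => by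
    rw [← C.herm_single_right (act g⁻¹ (Pi.single k 1)) c, ← mem_uiso.1 (C.iso hg), act_act_inv,
      C.herm_single_left]
  have two_col : ∀ g ∈ M, ¬ IsMono g⁻¹ → ∀ b r r', r ≠ r' → act g (Pi.single b 1) r = 0 →
      act g (Pi.single b 1) r' = 0 → C.Mixed α := fun g hg hgi b r r' hrr h1 h2' =>
    C.mixed_of_row hα hα2 hα3 (M.inv_mem hg) hgi hrr (n := b) (by rw [hinvcol g hg, h1, map_zero])
      (by rw [hinvcol g hg, h2', map_zero])
  rcases Nat.lt_or_ge (supp x).card 5 with h5 | h5
  · obtain ⟨r, hr, r', hr', hrr⟩ := Finset.one_lt_card.1 (show 1 < (supp x)ᶜ.card by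
      rw [Finset.card_compl, Fintype.card_fin]; omega)
    simp only [Finset.mem_compl, mem_supp, not_not, hx] at hr hr'
    exact two_col g hg hgi a r r' hrr hr hr'
  have hxm : x m = 0 := hm
  have hsupp : supp x = {m}ᶜ := Finset.eq_of_subset_of_card_le (fun r hr => by
      simp only [mem_supp] at hr
      simp only [Finset.mem_compl, Finset.mem_singleton]
      exact fun h => hr (h ▸ hxm)) (by rw [Finset.card_compl, Fintype.card_fin, Finset.card_singleton]; omega)
  by_cases hμ : ∃ μ : F, μ * σ μ = 1 ∧ μ ^ 6 ≠ 1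
  · -- a torus element gives an element fixing a coordinate line
    obtain ⟨μ, hμ1, hμ6⟩ := hμ
    obtain ⟨t, ht, -, htx⟩ := C.exists_diag (fun r => if r = a then μ ^ 5 else σ μ)
      (fun r => by
        split_ifs
        · rw [map_pow, ← mul_pow, hμ1, one_pow]
        · rw [C.sigma_sigma, mul_comm, hμ1])
      (by
        rw [← Finset.mul_prod_erase _ _ (Finset.mem_univ a), if_pos rfl,
          Finset.prod_congr rfl fun r hr => if_neg (Finset.ne_of_mem_erase hr), Finset.prod_const,
          Finset.card_erase_of_mem (Finset.mem_univ a), Finset.card_univ, Fintype.card_fin,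
          show (6 - 1 : ℕ) = 5 by norm_num, ← mul_pow, hμ1, one_pow])
    obtain ⟨γ, hγ⟩ : ∃ γ, γ = μ ^ 5 - σ μ := ⟨_, rfl⟩
    have hγ0 : γ ≠ 0 := fun h => hμ6 (by linear_combination μ * h - μ * hγ + hμ1)
    have ht1 : ∀ v, act t v = σ μ • v + (γ * v a) • Pi.single a 1 := fun v => funext fun r => by
      rw [htx, Pi.add_apply, Pi.smul_apply, Pi.smul_apply, smul_eq_mul, smul_eq_mul]
      rcases eq_or_ne r a with rfl | hr
      · rw [if_pos rfl, Pi.single_eq_same, hγ]; ring
      · rw [if_neg hr, Pi.single_eq_of_ne hr]; ring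
    have hy : ∀ v, act (g * t * g⁻¹) v = σ μ • v + (γ * herm σ v x) • x := fun v => by
      rw [act_mul, act_mul, ht1, map_add, map_smul, map_smul, act_act_inv, ← hx, ← C.herm_single_right (act g⁻¹ v) a,
        ← mem_uiso.1 (C.iso hg), act_act_inv, hx]
    obtain ⟨k, hk⟩ := Finset.card_pos.1 (show 0 < (supp x).card by omega)
    refine C.mixed_of_col hα (M.mul_mem (M.mul_mem hg ht) (M.inv_mem hg)) (fun hmono => ?_) (a := m) ?_
    · have hsub : (supp x).erase k ⊆ supp (act (g * t * g⁻¹) (Pi.single k 1)) := fun r hr => by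
        obtain ⟨hrk, hr'⟩ := Finset.mem_erase.1 hr
        rw [mem_supp, hy, Pi.add_apply, Pi.smul_apply, Pi.smul_apply, Pi.single_eq_of_ne hrk, smul_zero,
          zero_add, C.herm_single_left, smul_eq_mul]
        exact mul_ne_zero (mul_ne_zero hγ0 ((map_ne_zero σ).2 (mem_supp.1 hk))) (mem_supp.1 hr')
      have := (Finset.card_le_card hsub).trans (hmono k)
      rw [Finset.card_erase_of_mem hk] at this
      omega
    · refine (Finset.card_le_card (t := {m}) fun r hr => ?_).trans (Finset.card_singleton m).le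
      rw [mem_supp, hy, C.herm_single_left, hxm] at hr
      simp only [map_zero, mul_zero, zero_smul, add_zero, Pi.smul_apply, smul_eq_mul] at hr
      rw [Finset.mem_singleton]
      by_contra hne
      exact hr (by rw [Pi.single_eq_of_ne hne, mul_zero])
  · -- `q = 5`
    push Not at hμ
    obtain ⟨z₀, hz₀⟩ := C.hq.exists_primitive
    have hd6 : q + 1 ∣ 6 := hz₀.dvd_of_pow_eq_one 6 (hμ z₀ (C.hq.norm_one_iff.2 hz₀.pow_eq_one))
    have hq5 : q = 5 := by
      have hle : q ≤ 5 := by have := Nat.le_of_dvd (by norm_num) hd6; omega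
      have := C.hq.two_le
      interval_cases q <;> simp_all
    have hne1 : (-1 : F) ≠ 1 := fun e => by
      have h5 := C.hq.cast_q
      rw [hq5] at h5
      push_cast at h5
      exact one_ne_zero (α := F) (by linear_combination h5 + 2 * e)
    obtain ⟨k, hk, l, hl, hkl, hN⟩ : ∃ k ∈ supp x, ∃ l ∈ supp x, k ≠ l ∧ x k * σ (x k) = x l * σ (x l) := by
      by_contra hno
      push Not at hno
      have hroots : ∀ r ∈ supp x, (x r * σ (x r)) ^ 4 = 1 := fun r hr => by
        have := C.hq.norm_pow (mem_supp.1 hr)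
        rwa [hq5] at this
      have h1 : ((supp x).image fun r => x r * σ (x r)).card = (supp x).card :=
        Finset.card_image_of_injOn fun r hr r' hr' e =>
          by_contra fun hne => hno r hr r' hr' hne e
      have h2' : ((supp x).image fun r => x r * σ (x r)) ⊆ (Polynomial.nthRoots 4 (1 : F)).toFinset := fun v hv => by
        obtain ⟨r, hr, rfl⟩ := Finset.mem_image.1 hv
        rw [Multiset.mem_toFinset, Polynomial.mem_nthRoots (by norm_num)]
        exact hroots r hr
      have := (Finset.card_le_card h2').trans ((Multiset.toFinset_card_le _).trans (Polynomial.card_nthRoots 4 _))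
      omega
    rw [mem_supp] at hk hl
    have hkm : k ≠ m := fun e => hk (e ▸ hxm)
    have hlm : l ≠ m := fun e => hl (e ▸ hxm)
    obtain ⟨dl, hdl⟩ : ∃ dl, dl = x l / x k := ⟨_, rfl⟩
    have hdl1 : dl * σ dl = 1 := by
      rw [hdl, map_div₀, div_mul_div_comm, ← hN, div_self (C.norm_ne_zero hk)]
    have hdl0 := C.norm_one_ne_zero hdl1
    obtain ⟨n, hn, -, hnx⟩ := C.exists_mono_mem (Equiv.swap k l)
      (fun r => if r = k then dl else if r = l then σ dl else if r = m then -1 else 1)
      (fun r => by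
        split_ifs
        · exact hdl1
        · rw [C.sigma_sigma, mul_comm, hdl1]
        · simp
        · simp) ⟨Equiv.swap k l, fun _ => rfl⟩ (by
        rw [Equiv.Perm.sign_swap hkl, ← Finset.prod_subset (Finset.subset_univ {k, l, m}) fun r _ hr => by
          simp only [Finset.mem_insert, Finset.mem_singleton, not_or] at hr
          simp [hr.1, hr.2.1, hr.2.2],
          Finset.prod_insert (by simp [hkl, hkm]), Finset.prod_pair hlm]
        simp only [if_true, hkl.symm, hlm.symm, hkm.symm, if_false]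
        push_cast
        linear_combination hdl1)
    obtain ⟨φ, hφ⟩ : ∃ φ : Fin 6 → F, φ = Pi.single l 1 - σ dl • Pi.single k 1 := ⟨_, rfl⟩
    have hnv : ∀ v, ∃ A B : F, act n v - v = A • φ + B • Pi.single m 1 := fun v => by
      refine ⟨dl * v k - v l, -2 * v m, funext fun r => ?_⟩
      obtain ⟨r', rfl⟩ := (Equiv.swap k l).surjective r
      simp only [Pi.sub_apply, hnx, Pi.add_apply, Pi.smul_apply, smul_eq_mul, hφ]
      rcases eq_or_ne r' k with rfl | h1
      · simp [hkl.symm, hlm]
      rcases eq_or_ne r' l with rfl | h2'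
      · simp [hkl.symm, hkl, hkm]
        linear_combination v k * hdl1
      rcases eq_or_ne r' m with rfl | h3
      · simp [Equiv.swap_apply_of_ne_of_ne, h1, h2']; ring
      · simp [Equiv.swap_apply_of_ne_of_ne, h1, h2', h3]
    have hnX : act n x = x := funext fun r => by
      obtain ⟨r', rfl⟩ := (Equiv.swap k l).surjective r
      rw [hnx]
      rcases eq_or_ne r' k with rfl | h1
      · simp [hdl]; field_simp
      rcases eq_or_ne r' l with rfl | h2'
      · simp [hkl.symm]
        have : dl * x k = x r' := by rw [hdl]; field_simp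
        linear_combination (x k) * hdl1 - σ dl * this
      rcases eq_or_ne r' m with rfl | h3
      · simp [Equiv.swap_apply_of_ne_of_ne, h1, h2', hxm]
      · simp [Equiv.swap_apply_of_ne_of_ne, h1, h2', h3]
    have hy : g⁻¹ * n * g ∈ M := M.mul_mem (M.mul_mem (M.inv_mem hg) hn) hg
    by_cases hym : IsMono (g⁻¹ * n * g)
    swap
    · refine C.mixed_of_col hα hy hym (a := a) ((Finset.card_le_card (t := {a}) fun r hr => ?_).trans
        (Finset.card_singleton a).le)
      rw [mem_supp, act_mul, act_mul, ← hx, hnX, hx, act_inv_act] at hr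
      rw [Finset.mem_singleton]
      by_contra hne
      exact hr (Pi.single_eq_of_ne hne _)
    -- otherwise row `m` has two zeros
    obtain ⟨w, hw⟩ : ∃ w, w = act g⁻¹ (Pi.single m 1) := ⟨_, rfl⟩
    have hnm : act n (Pi.single m 1) = -Pi.single m 1 := funext fun r => by
      obtain ⟨r', rfl⟩ := (Equiv.swap k l).surjective r
      rw [hnx, Pi.neg_apply]
      rcases eq_or_ne r' k with rfl | h1
      · simp [hkm, hlm]
      rcases eq_or_ne r' l with rfl | h2'
      · simp [hlm, hkm]
      rcases eq_or_ne r' m with rfl | h3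
      · simp [Equiv.swap_apply_of_ne_of_ne, h1, h2']
      · simp [Equiv.swap_apply_of_ne_of_ne, h1, h2', h3]
    have hyw : act (g⁻¹ * n * g) w = -w := by rw [hw, act_mul, act_mul, act_act_inv, hnm, map_neg]
    rcases Nat.lt_or_ge (supp w).card 5 with hw5 | hw5
    · obtain ⟨r, hr, r', hr', hrr⟩ := Finset.one_lt_card.1 (show 1 < (supp w)ᶜ.card by
        rw [Finset.card_compl, Fintype.card_fin]; omega)
      simp only [Finset.mem_compl, mem_supp, not_not, hw, hinvcol g hg, map_eq_zero] at hr hr'
      exact C.mixed_of_row hα hα2 hα3 hg hgm hrr hr hr'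
    exfalso
    obtain ⟨π, δ, hδ, hcol, hyx, -⟩ := C.mono_data hy hym
    obtain ⟨d, hd⟩ : ∃ d : Fin 6 → Fin 6 → F,
        d = fun r => act (g⁻¹ * n * g) (Pi.single r 1) - Pi.single r 1 := ⟨_, rfl⟩
    have hdd : ∀ r, ∃ A B : F, d r = A • act g⁻¹ φ + B • w := fun r => by
      obtain ⟨A, B, e⟩ := hnv (act g (Pi.single r 1))
      refine ⟨A, B, ?_⟩
      have := congrArg (act g⁻¹) e
      rw [map_sub, act_inv_act, map_add, map_smul, map_smul, ← hw, ← act_mul, ← act_mul] at this
      rw [hd]; exact this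
    have hdsupp : ∀ r x', x' ≠ r → x' ≠ π r → d r x' = 0 := fun r x' h1 h2' => by
      rw [hd]; simp [hcol, h1, h2']
    have hdiag : ∀ r ∈ supp w, d r r ≠ 0 := fun r hr h0 => by
      rw [mem_supp] at hr
      rw [hd] at h0
      simp only [Pi.sub_apply, hcol, Pi.smul_apply, smul_eq_mul, Pi.single_eq_same] at h0
      have hπr : π r = r := by
        by_contra hne
        rw [Pi.single_eq_of_ne (Ne.symm hne), mul_zero, zero_sub] at h0
        exact neg_ne_zero.2 one_ne_zero h0
      rw [hπr, Pi.single_eq_same, mul_one, sub_eq_zero] at h0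
      have := hyx w r
      rw [hπr, h0, one_mul, hyw, Pi.neg_apply] at this
      exact hr ((mul_eq_zero.1 (show (-1 - 1 : F) * w r = 0 by linear_combination this)).resolve_left
        (sub_ne_zero.2 hne1))
    obtain ⟨r₁, hr₁⟩ := Finset.card_pos.1 (show 0 < (supp w).card by omega)
    obtain ⟨r₂, hr₂, hr₂n⟩ := Finset.exists_mem_notMem_of_card_lt_card (s := ({r₁, π r₁} : Finset (Fin 6)))
      (t := supp w) (lt_of_le_of_lt Finset.card_le_two (by omega))
    obtain ⟨r₃, hr₃, hr₃n⟩ := Finset.exists_mem_notMem_of_card_lt_card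
      (s := ({r₁, π r₁, r₂, π r₂} : Finset (Fin 6))) (t := supp w) (lt_of_le_of_lt Finset.card_le_four (by omega))
    simp only [Finset.mem_insert, Finset.mem_singleton, not_or] at hr₂n hr₃n
    have hli : LinearIndependent F ![d r₁, d r₂, d r₃] := by
      rw [Fintype.linearIndependent_iff]
      intro co hco
      simp only [Fin.sum_univ_three, Matrix.cons_val_zero, Matrix.cons_val_one, Matrix.cons_val] at hco
      have e3 := congrFun hco r₃
      simp [hdsupp r₁ r₃ hr₃n.1 hr₃n.2.1, hdsupp r₂ r₃ hr₃n.2.2.1 hr₃n.2.2.2, hdiag r₃ hr₃] at e3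
      have e2 := congrFun hco r₂
      simp [hdsupp r₁ r₂ hr₂n.1 hr₂n.2, hdiag r₂ hr₂, e3] at e2
      have e1 := congrFun hco r₁
      simp [hdiag r₁ hr₁, e3, e2] at e1
      intro i; fin_cases i <;> assumption
    have hspan : Set.range ![d r₁, d r₂, d r₃] ⊆
        (Submodule.span F (Set.range ![act g⁻¹ φ, w]) : Set (Fin 6 → F)) := by
      rintro _ ⟨i, rfl⟩
      have : ∀ r, d r ∈ Submodule.span F (Set.range ![act g⁻¹ φ, w]) := fun r => by
        obtain ⟨A, B, e⟩ := hdd r
        rw [e]
        exact Submodule.add_mem _ (Submodule.smul_mem _ _ (Submodule.subset_span ⟨0, rfl⟩))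
          (Submodule.smul_mem _ _ (Submodule.subset_span ⟨1, rfl⟩))
      fin_cases i <;> exact this _
    have h3 := finrank_span_eq_card hli
    have h4 := Submodule.finrank_mono (Submodule.span_le.2 hspan)
    have h5' := finrank_range_le_card (R := F) ![act g⁻¹ φ, w]
    rw [Set.finrank] at h5'
    rw [h3] at h4
    simp only [Fintype.card_fin] at h4 h5'
    omega

end Ctx

end Cfsg.Agent.MaxCl.Unit
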