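/-
Stabilisers of non-degenerate decompositions are maximal in `SU_6(q)`: six lines and three planes for `q ≥ 3`, two
3-spaces for every `q`.
-/
import Mathlib
import Cfsg.Agent.Lib.MaxCl.UnitaryDecompMax
import Cfsg.Agent.Lib.MaxCl.SU6.FrameZero
import Cfsg.Agent.Lib.MaxCl.HermForms

set_option autoImplicit false

namespace Cfsg.Agent.MaxCl.SU6

open Cfsg Cfsg.Agent.MaxCl Cfsg.Agent.MaxCl.Unit

/-- decompositions of `F^6` into non-degenerate subspaces -/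
theorem decomposition_maximal_six {F : Type*} [Field F] [Fintype F] (q : ℕ) (hF : Fintype.card F = q ^ 2) {t : ℕ}
    (k : ℕ) (D : Fin t → Submodule F (Fin 6 → F))
    (hD : Cfsg.Geo.IsNondegenerateMDecomposition (Cfsg.hermForm 6 F q) k D) (hex : q = 2 → k ≠ 1 ∧ k ≠ 2) :
    Cfsg.Geo.IsMaximalIn (Cfsg.GU 6 F q ⊓ Cfsg.Geo.specialLinear (Fin 6) F)
      (Cfsg.Geo.decompositionStabilizer D ⊓ (Cfsg.GU 6 F q ⊓ Cfsg.Geo.specialLinear (Fin 6) F)) := by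
  obtain ⟨τ, hτ, hf⟩ := hermForm_isUnitary 6 q hF
  have hfe : Cfsg.hermForm 6 F q = herm (ι := Fin 6) τ := by
    funext x y
    simp only [Cfsg.hermForm, herm, hτ]
  rw [hfe] at hf hD
  have hGU : Cfsg.GU 6 F q = uiso (herm (ι := Fin 6) τ) := by
    rw [← hfe]; rfl
  rw [hGU]
  exact unitary_decomposition_maximal ⟨hF, hτ⟩ le_rfl hf hD (fun h => (hex h.2).2 h.1) fun hk _ =>
    ⟨fun h => (hex h).1 hk, fun M C' {α} hα hα2 hα3 {g} hg hgm =>
      C'.exists_mixed_six (fun h => (hex h).1 hk) hα hα2 hα3 hg hgm⟩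

theorem frame_maximal_six {F : Type*} [Field F] [Fintype F] (q : ℕ) (hF : Fintype.card F = q ^ 2) (hq : 3 ≤ q)
    (D : Fin 6 → Submodule F (Fin 6 → F))
    (hD : Cfsg.Geo.IsNondegenerateMDecomposition (Cfsg.hermForm 6 F q) 1 D) :
    Cfsg.Geo.IsMaximalIn (Cfsg.GU 6 F q ⊓ Cfsg.Geo.specialLinear (Fin 6) F)
      (Cfsg.Geo.decompositionStabilizer D ⊓ (Cfsg.GU 6 F q ⊓ Cfsg.Geo.specialLinear (Fin 6) F)) :=
  decomposition_maximal_six q hF 1 D hD fun h => absurd h (by omega)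

theorem planes_maximal_six {F : Type*} [Field F] [Fintype F] (q : ℕ) (hF : Fintype.card F = q ^ 2) (hq : 3 ≤ q)
    (D : Fin 3 → Submodule F (Fin 6 → F))
    (hD : Cfsg.Geo.IsNondegenerateMDecomposition (Cfsg.hermForm 6 F q) 2 D) :
    Cfsg.Geo.IsMaximalIn (Cfsg.GU 6 F q ⊓ Cfsg.Geo.specialLinear (Fin 6) F)
      (Cfsg.Geo.decompositionStabilizer D ⊓ (Cfsg.GU 6 F q ⊓ Cfsg.Geo.specialLinear (Fin 6) F)) :=
  decomposition_maximal_six q hF 2 D hD fun h => absurd h (by omega)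

theorem halves_maximal_six {F : Type*} [Field F] [Fintype F] (q : ℕ) (hF : Fintype.card F = q ^ 2)
    (D : Fin 2 → Submodule F (Fin 6 → F))
    (hD : Cfsg.Geo.IsNondegenerateMDecomposition (Cfsg.hermForm 6 F q) 3 D) :
    Cfsg.Geo.IsMaximalIn (Cfsg.GU 6 F q ⊓ Cfsg.Geo.specialLinear (Fin 6) F)
      (Cfsg.Geo.decompositionStabilizer D ⊓ (Cfsg.GU 6 F q ⊓ Cfsg.Geo.specialLinear (Fin 6) F)) :=
  decomposition_maximal_six q hF 3 D hD fun _ => ⟨by norm_num, by norm_num⟩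

end Cfsg.Agent.MaxCl.SU6
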