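/-
The stabiliser of a tensor decomposition `F^2 ⊗ F^3` is maximal in `SU_6(q)` for `q ≥ 3`.

An overgroup either has a root group at a pure vector `v ⊗ w` with both factors isotropic, and then contains every
transvection, or all its top elements on both sides are scalar. In the second case an element `g` maps vectors
`u ⊗ b` with killed image to pure vectors; the image of a totally singular `v ⊗ F^3` then contains two independent
pure vectors with a common isotropic first factor, so it is stable under a root element, and `g` is a tensor product.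
-/
import Mathlib
import Cfsg.Agent.Lib.MaxCl.UnitaryTensorSpread
import Cfsg.Agent.Lib.Forms.TensorWreath

set_option autoImplicit false

namespace Cfsg.Agent.MaxCl.SU6

open scoped MatrixGroups Matrix
open Module (finrank)
open Unit (uiso flinU utv utvGroup uperp RootIn)
open Tens

section General

variable {ι : Type} [Fintype ι] [DecidableEq ι] {F : Type*} [Field F]
variable {σ : F ≃+* F} {h : (ι → F) → (ι → F) → F} (hU : Cfsg.Geo.IsUnitaryForm σ h)
include hU

theorem exists_iso_in [Fintype F] {S : Submodule F (ι → F)} (hS : 2 ≤ finrank F S) :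
    ∃ w ∈ S, w ≠ 0 ∧ h w w = 0 := by
  obtain ⟨a, ha, ha0⟩ := Submodule.exists_mem_ne_zero_of_ne_bot (p := S) fun e => by
    rw [e, finrank_bot] at hS; omega
  obtain ⟨b, hb, hba⟩ := SetLike.not_le_iff_exists.1 (show ¬ S ≤ F ∙ a by
    intro hle; have := Submodule.finrank_mono hle; rw [finrank_span_singleton ha0] at this; omega)
  obtain ⟨s, t, hst, hiso⟩ := Unit.exists_isotropic_pair hU a b
  refine ⟨_, add_mem (Submodule.smul_mem _ _ ha) (Submodule.smul_mem _ _ hb), ?_, hiso⟩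
  intro e
  rcases eq_or_ne t 0 with rfl | ht
  · rw [zero_smul, add_zero, smul_eq_zero, or_iff_left ha0] at e
    exact (hst.resolve_right (by simp)) e
  · exact hba (Submodule.mem_span_singleton.2 ⟨-(t⁻¹ * s), by
      rw [neg_smul, mul_smul, eq_neg_of_add_eq_zero_left e, smul_neg, neg_neg, inv_smul_smul₀ ht]⟩)

theorem exists_partner [Fintype F] {v : ι → F} (hv0 : v ≠ 0) (hv : h v v = 0) :
    ∃ v', h v' v' = 0 ∧ h v' v = 1 ∧ h v v' = 1 := by
  obtain ⟨z, hz⟩ := (hU.nondegenerate v hv0).1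
  have hzv : h ((h z v)⁻¹ • z) v = 1 := by rw [Unit.smul_left hU, inv_mul_cancel₀ hz]
  obtain ⟨a, ha⟩ := Unit.exists_isotropic_shift hU hv hzv
  have e : h ((h z v)⁻¹ • z + a • v) v = 1 := by
    rw [Unit.add_left hU, hzv, Unit.smul_left hU, hv, mul_zero, add_zero]
  exact ⟨_, ha, e, by rw [← Unit.herm' hU, e, map_one]⟩

/-- a product of two transvections scales an isotropic vector by a given fixed scalar -/
theorem exists_scale_fixed [Fintype F] {v : ι → F} (hv0 : v ≠ 0) (hv : h v v = 0) {a : F} (ha : σ a = a)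
    (ha0 : a ≠ 0) : ∃ A ∈ utvGroup hU, act A v = a • v := by
  obtain ⟨v', hv', hv'v, hvv'⟩ := exists_partner hU hv0 hv
  obtain ⟨θ, hθ0, hθ⟩ := Unit.exists_skew hU.ne_refl hU.involutive
  have hσθ : σ θ = -θ := eq_neg_of_add_eq_zero_right hθ
  have hz : h (θ • v') (θ • v') = 0 := by rw [Unit.smul_left hU, Unit.smul_right hU, hv', mul_zero, mul_zero]
  obtain ⟨g₁, hg₁, e₁⟩ := Unit.exists_move_skew hU hv hz
    (by rw [Unit.smul_right hU, hvv', mul_one, hU.involutive, add_comm]; exact hθ)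
    (by rw [Unit.smul_right hU, hvv', mul_one]; exact (map_ne_zero σ).2 hθ0)
  obtain ⟨g₂, hg₂, e₂⟩ := Unit.exists_move_skew hU hz (y := a • v)
    (by rw [Unit.smul_left hU, Unit.smul_right hU, hv, mul_zero, mul_zero])
    (by
      rw [Unit.smul_left hU, Unit.smul_right hU, hv'v, mul_one, ha, map_mul, hσθ, ha]
      ring)
    (by rw [Unit.smul_left hU, Unit.smul_right hU, hv'v, mul_one, ha]; exact mul_ne_zero hθ0 ha0)
  exact ⟨g₂ * g₁, mul_mem hg₂ hg₁, by rw [act_mul, e₁, e₂]⟩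

/-- a plane is spanned by an isotropic vector and its partner -/
theorem plane_expand {v v' : ι → F} (hd : Fintype.card ι = 2) (hv : h v v = 0) (hv' : h v' v' = 0)
    (hv'v : h v' v = 1) (hvv' : h v v' = 1) (u : ι → F) : u = h u v' • v + h u v • v' := by
  have hind : LinearIndependent F ![v, v'] := by
    refine LinearIndependent.pair_iff.2 fun s t e => ?_
    have e1 := congrArg (fun x => h x v) e
    have e2 := congrArg (fun x => h x v') e
    simp only [Unit.add_left hU, Unit.smul_left hU, hv, hv', hv'v, hvv', Unit.zero_left hU, mul_zero, mul_one,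
      zero_add, add_zero] at e1 e2
    exact ⟨e2, e1⟩
  have htop := hind.span_eq_top_of_card_eq_finrank' (by simp [hd])
  rw [Matrix.range_cons, Matrix.range_cons, Matrix.range_empty, Set.union_empty, Set.singleton_union] at htop
  obtain ⟨s, t, e⟩ := Submodule.mem_span_pair.1 (show u ∈ Submodule.span F ({v, v'} : Set (ι → F)) by
    rw [htop]; trivial)
  subst e
  simp only [Unit.add_left hU, Unit.smul_left hU, hv, hv', hv'v, hvv', mul_zero, mul_one, zero_add, add_zero]

end General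

section Counting

variable {F : Type*} [Field F] [Fintype F] {σ : F ≃+* F}

open Classical in
/-- the skew elements -/
noncomputable def skewSet (σ : F ≃+* F) : Finset F := Finset.univ.filter fun e => e + σ e = 0

theorem skewSet_card {q : ℕ} (hq : 2 ≤ q) (hσ : ∀ x, σ x = x ^ q) (hF : Fintype.card F = q ^ 2) :
    (skewSet σ).card ≤ q ∧ q ≤ (skewSet σ).card := by
  classical
  have hinv : ∀ x, σ (σ x) = x := fun x => by
    rw [hσ, hσ, ← pow_mul, ← sq, ← hF, FiniteField.pow_card]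
  let p : Polynomial F := Polynomial.X ^ q + Polynomial.X
  have hdeg : p.natDegree = q := by
    rw [Polynomial.natDegree_add_eq_left_of_natDegree_lt] <;> simp
    omega
  have hp0 : p ≠ 0 := fun e => by rw [e, Polynomial.natDegree_zero] at hdeg; omega
  have h1 : (skewSet σ).card ≤ q := by
    refine (Finset.card_le_card (t := p.roots.toFinset) fun e he => ?_).trans
      ((Multiset.toFinset_card_le _).trans ((Polynomial.card_roots' p).trans_eq hdeg))
    rw [Multiset.mem_toFinset, Polynomial.mem_roots hp0]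
    simp only [p, Polynomial.IsRoot, Polynomial.eval_add, Polynomial.eval_pow, Polynomial.eval_X]
    rw [← hσ, add_comm]
    exact (Finset.mem_filter.1 he).2
  refine ⟨h1, ?_⟩
  let tr : F → F := fun x => x + σ x
  have hp' : ∀ y ∈ Finset.univ.image tr, y ∈ (Polynomial.X ^ q - Polynomial.X : Polynomial F).roots.toFinset := by
    intro y hy
    obtain ⟨x, -, rfl⟩ := Finset.mem_image.1 hy
    rw [Multiset.mem_toFinset, Polynomial.mem_roots (FiniteField.X_pow_card_sub_X_ne_zero F (by omega))]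
    simp only [Polynomial.IsRoot, Polynomial.eval_sub, Polynomial.eval_pow, Polynomial.eval_X]
    rw [← hσ, sub_eq_zero]
    show σ (x + σ x) = x + σ x
    rw [map_add, hinv, add_comm]
  have h2 : (Finset.univ.image tr).card ≤ q :=
    (Finset.card_le_card hp').trans ((Multiset.toFinset_card_le _).trans ((Polynomial.card_roots' _).trans_eq
      (FiniteField.X_pow_card_sub_X_natDegree_eq F (by omega))))
  have h3 : ∀ y ∈ Finset.univ.image tr, (Finset.univ.filter fun x => tr x = y).card ≤ (skewSet σ).card := by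
    intro y hy
    obtain ⟨x₀, -, rfl⟩ := Finset.mem_image.1 hy
    refine Finset.card_le_card_of_injOn (fun x => x - x₀) (fun x hx => ?_) fun a _ b _ e => sub_left_injective e
    simp only [Finset.coe_filter, Finset.mem_univ, true_and, Set.mem_setOf_eq] at hx
    refine Finset.mem_coe.2 (Finset.mem_filter.2 ⟨Finset.mem_univ _, ?_⟩)
    rw [map_sub]
    change x + σ x = x₀ + σ x₀ at hx
    linear_combination hx
  have h4 := Finset.card_le_mul_card_image (f := tr) Finset.univ (skewSet σ).card h3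
  rw [Finset.card_univ, hF] at h4
  by_contra hlt
  push Not at hlt
  nlinarith [h2, h4, hlt]

theorem card_roots_norm {q : ℕ} (hq : 2 ≤ q) (hσ : ∀ x, σ x = x ^ q) {N : F} (hN : N ≠ 0) (a b c : F) :
    ∀ S : Finset F, (∀ t ∈ S, N * (t * σ t) + a * σ t + b * t + c = 0) → S.card ≤ q + 1 := by
  classical
  intro S hS
  let p : Polynomial F := Polynomial.C N * Polynomial.X ^ (q + 1) + Polynomial.C a * Polynomial.X ^ q +
    Polynomial.C b * Polynomial.X + Polynomial.C c
  have hcoef : p.coeff (q + 1) = N := by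
    simp only [p, Polynomial.coeff_add, Polynomial.coeff_C_mul_X_pow, Polynomial.coeff_C]
    rw [if_pos trivial, if_neg (by omega), if_neg (by omega), Polynomial.coeff_C_mul_X, if_neg (by omega)]
    simp
  have hp0 : p ≠ 0 := fun e => hN (by rw [← hcoef, e, Polynomial.coeff_zero])
  have hdeg : p.natDegree ≤ q + 1 := by
    refine (Polynomial.natDegree_add_le _ _).trans (max_le ((Polynomial.natDegree_add_le _ _).trans (max_le
      ((Polynomial.natDegree_add_le _ _).trans (max_le ?_ ?_)) ?_)) ?_)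
    · exact (Polynomial.natDegree_C_mul_X_pow_le _ _)
    · exact (Polynomial.natDegree_C_mul_X_pow_le _ _).trans (by omega)
    · exact (Polynomial.natDegree_C_mul_le _ _).trans (by simp)
    · simp
  refine (Finset.card_le_card (t := p.roots.toFinset) fun t ht => ?_).trans
    ((Multiset.toFinset_card_le _).trans ((Polynomial.card_roots' p).trans hdeg))
  rw [Multiset.mem_toFinset, Polynomial.mem_roots hp0]
  have := hS t ht
  rw [hσ] at this
  simp only [p, Polynomial.IsRoot, Polynomial.eval_add, Polynomial.eval_mul, Polynomial.eval_C,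
    Polynomial.eval_pow, Polynomial.eval_X, pow_succ]
  linear_combination this

end Counting

variable {ι : Type} [Fintype ι] [DecidableEq ι] {F : Type*} [Field F] {n₁ n₂ : ℕ}
variable {T : TSys ι F n₁ n₂} {σ : F ≃+* F} {f : (ι → F) → (ι → F) → F}
variable {f₁ : (Fin n₁ → F) → (Fin n₁ → F) → F} {f₂ : (Fin n₂ → F) → (Fin n₂ → F) → F} {c : F}
variable {M : Subgroup (GL ι F)}

/-- `z` adds `f₁(u, v) v ⊗ S b` to `u ⊗ b` -/
def IsTopL (T : TSys ι F n₁ n₂) (f₁ : (Fin n₁ → F) → (Fin n₁ → F) → F) (v : Fin n₁ → F) (z : GL ι F)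
    (S : (Fin n₂ → F) →ₗ[F] (Fin n₂ → F)) : Prop :=
  ∀ u b, act z (pt T u b) = pt T u b + f₁ u v • pt T v (S b)

/-- all left top elements of `M` are scalar -/
def TopScalarL (T : TSys ι F n₁ n₂) (f₁ : (Fin n₁ → F) → (Fin n₁ → F) → F) (M : Subgroup (GL ι F)) : Prop :=
  ∀ v, v ≠ 0 → f₁ v v = 0 → ∀ z ∈ M, ∀ S, IsTopL T f₁ v z S → ∃ s : F, ∀ b, S b = s • b

/-- the hermitian forms of the left top elements of `M` at `v` -/
def TopFormsL (T : TSys ι F n₁ n₂) (f₁ : (Fin n₁ → F) → (Fin n₁ → F) → F)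
    (f₂ : (Fin n₂ → F) → (Fin n₂ → F) → F) (M : Subgroup (GL ι F)) (v : Fin n₁ → F) (θ : F)
    (β : (Fin n₂ → F) → (Fin n₂ → F) → F) : Prop :=
  ∃ z ∈ M, ∃ S, IsTopL T f₁ v z S ∧ β = fun x y => θ * f₂ (S x) y

variable [Fintype F] (C : UCtx T σ f f₁ f₂ c M)
include C

theorem isTopL_one (v : Fin n₁ → F) {θ : F} (hθ : θ + σ θ = 0) (hv : f₁ v v = 0) :
    gl T (utv C.h₁ v θ) 1 ∈ M ∧ IsTopL T f₁ v (gl T (utv C.h₁ v θ) 1) (θ • LinearMap.id) := by
  refine ⟨gl_left_mem C (Unit.utv_mem_utvGroup C.h₁ hv hθ), fun u b => ?_⟩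
  rw [act_gl_pt, act_one, Unit.act_utv C.h₁ hv, pt_add_left, pt_smul_left, LinearMap.smul_apply,
    LinearMap.id_apply, pt_smul_right, smul_smul, mul_comm]

theorem exists_one_skew {v : Fin n₁ → F} (hv : f₁ v v = 0) {θ : F} (hθ0 : θ ≠ 0) (hθ : θ + σ θ = 0) :
    TopFormsL T f₁ f₂ M v θ f₂ := by
  have hσθ : σ θ = -θ := eq_neg_of_add_eq_zero_right hθ
  obtain ⟨h1, h2⟩ := isTopL_one C v (θ := θ⁻¹) (by rw [map_inv₀, hσθ, inv_neg, add_neg_cancel]) hv
  refine ⟨_, h1, _, h2, ?_⟩
  funext x y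
  rw [LinearMap.smul_apply, LinearMap.id_apply, Unit.smul_left C.h₂, mul_inv_cancel_left₀ hθ0]

theorem formSetL {v : Fin n₁ → F} (hv0 : v ≠ 0) (hv : f₁ v v = 0) {θ : F} (hθ0 : θ ≠ 0) (hθ : θ + σ θ = 0) :
    Unit.FormSet σ f₂ (TopFormsL T f₁ f₂ M v θ) := by
  obtain ⟨v', hv', hv'v, hvv'⟩ := exists_partner C.h₁ hv0 hv
  have hσθ : σ θ = -θ := eq_neg_of_add_eq_zero_right hθ
  have hadd : ∀ β γ, TopFormsL T f₁ f₂ M v θ β → TopFormsL T f₁ f₂ M v θ γ →
      TopFormsL T f₁ f₂ M v θ fun x y => β x y + γ x y := by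
    rintro β γ ⟨z, hz, S, hS, rfl⟩ ⟨z', hz', S', hS', rfl⟩
    refine ⟨z * z', M.mul_mem hz hz', S + S', fun u b => ?_, ?_⟩
    · rw [act_mul, hS', map_add, map_smul, hS, hS, hv, zero_smul, add_zero, LinearMap.add_apply, pt_add_right,
        smul_add]
      abel
    · funext x y
      rw [LinearMap.add_apply, Unit.add_left C.h₂, mul_add]
  have hneg : ∀ β, TopFormsL T f₁ f₂ M v θ β → TopFormsL T f₁ f₂ M v θ fun x y => -β x y := by
    rintro β ⟨z, hz, S, hS, rfl⟩
    refine ⟨z⁻¹, M.inv_mem hz, -S, fun u b => act_injective z ?_, ?_⟩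
    · rw [act_act_inv, map_add, map_smul, hS, hS, hv, zero_smul, add_zero, LinearMap.neg_apply, pt_neg_right,
        smul_neg, add_neg_cancel_right]
    · funext x y
      rw [LinearMap.neg_apply, ← neg_one_smul F (S x), Unit.smul_left C.h₂]; ring
  have hsq : ∀ a, σ a = a → ∀ β, TopFormsL T f₁ f₂ M v θ β →
      TopFormsL T f₁ f₂ M v θ fun x y => a * a * β x y := by
    rintro a ha β ⟨z, hz, S, hS, rfl⟩
    rcases eq_or_ne a 0 with rfl | ha0
    · have h0 := hadd _ _ ⟨z, hz, S, hS, rfl⟩ (hneg _ ⟨z, hz, S, hS, rfl⟩)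
      convert h0 using 1
      funext x y; ring
    obtain ⟨A, hA, hAv⟩ := exists_scale_fixed C.h₁ hv0 hv ha ha0
    refine ⟨gl T A 1 * z * gl T A⁻¹ 1, M.mul_mem (M.mul_mem (gl_left_mem C hA) hz)
      (gl_left_mem C (inv_mem hA)), (a * a) • S, fun u b => ?_, ?_⟩
    · have e : f₁ (act A⁻¹ u) v = a * f₁ u v := by
        rw [← Unit.mem_uiso.1 (Unit.utvGroup_le_uiso C.h₁ hA), act_act_inv, hAv, Unit.smul_right C.h₁, ha]
      rw [act_mul, act_mul, act_gl_pt, act_one, hS, map_add, map_smul, act_gl_pt, act_gl_pt, act_one, act_one,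
        act_act_inv, hAv, e, LinearMap.smul_apply, pt_smul_left, pt_smul_right, smul_smul, smul_smul]
      congr 2
      ring
    · funext x y
      rw [LinearMap.smul_apply, Unit.smul_left C.h₂]; ring
  refine ⟨C.h₂, ?_, exists_one_skew C hv hθ0 hθ, hadd, ?_, ?_⟩
  · rintro β ⟨z, hz, S, hS, rfl⟩
    have skew : ∀ x y, f₂ (S x) y + f₂ x (S y) = 0 := by
      intro x y
      have e := Unit.mem_uiso.1 (C.le hz).1 (pt T v' x) (pt T v' y)
      rw [hS, hS, hv'v, one_smul, one_smul] at e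
      simp only [Unit.add_left C.hU, Unit.add_right C.hU, C.form, hv, hv'v, hvv', hv', zero_mul, one_mul,
        mul_zero, add_zero, zero_add] at e
      have : c * (f₂ (S x) y + f₂ x (S y)) = 0 := by linear_combination e
      exact (mul_eq_zero.1 this).resolve_left C.c_ne
    refine ⟨fun x y w => ?_, fun k x w => ?_, fun w u => ?_⟩
    · rw [map_add, Unit.add_left C.h₂, mul_add]
    · rw [map_smul, Unit.smul_left C.h₂]; ring
    · rw [map_mul, hσθ, Unit.herm' C.h₂]
      linear_combination θ * skew w u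
  · intro k hk β hβ
    by_cases h2 : (2 : F) = 0
    · obtain ⟨a, rfl⟩ := FiniteField.isSquare_of_char_two
        (by
          by_contra hne
          exact Ring.two_ne_zero hne h2) k
      refine hsq a ?_ β hβ
      rw [map_mul] at hk
      have e : (σ a - a) * (σ a - a) = 0 := by linear_combination hk - σ a * a * h2 + a * a * h2
      exact sub_eq_zero.1 (mul_self_eq_zero.1 e)
    · have h := hadd _ _ (hsq ((k + 1) / 2) (by rw [map_div₀, map_add, hk, map_one, map_ofNat]) β hβ)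
        (hneg _ (hsq ((k - 1) / 2) (by rw [map_div₀, map_sub, hk, map_one, map_ofNat]) β hβ))
      convert h using 1
      funext x y
      field_simp
      ring
  · rintro a ha β ⟨z, hz, S, hS, rfl⟩
    refine ⟨gl T 1 a⁻¹ * z * gl T 1 a,
      M.mul_mem (M.mul_mem (gl_mem_M_of_sl C (one_mem _) (inv_mem ha)) hz) (gl_mem_M_of_sl C (one_mem _) ha),
      act a⁻¹ ∘ₗ S ∘ₗ act a, fun u b => ?_, ?_⟩
    · rw [act_mul, act_mul, act_gl_pt, act_one, hS, map_add, map_smul, act_gl_pt, act_gl_pt, act_one, act_one,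
        act_inv_act]
      rfl
    · funext x y
      show _ = θ * f₂ (act a⁻¹ (S (act a x))) y
      congr 1
      conv_rhs => rw [← Unit.mem_uiso.1 ha.1, act_act_inv]

/-- a non-scalar left top element gives the root group of some `v ⊗ w`, both isotropic -/
theorem rootIn_of_topL (h3 : n₂ = 3) (hnot : ¬ TopScalarL T f₁ M) :
    ∃ v w, v ≠ 0 ∧ w ≠ 0 ∧ f₁ v v = 0 ∧ f₂ w w = 0 ∧ RootIn C.hU M (pt T v w) := by
  simp only [TopScalarL] at hnot
  push Not at hnot
  obtain ⟨v, hv0, hv, z, hz, S, hS, hns⟩ := hnot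
  obtain ⟨θ, hθ0, hθ⟩ := Unit.exists_skew C.hU.ne_refl C.hU.involutive
  have hσθ : σ θ = -θ := eq_neg_of_add_eq_zero_right hθ
  have Fs := formSetL C hv0 hv hθ0 hθ
  obtain ⟨w, hw0, hw, hL⟩ := Unit.exists_rankForm Fs (by omega) (by omega) (β := fun x y => θ * f₂ (S x) y)
    ⟨z, hz, S, hS, rfl⟩ fun k hk e => by
      obtain ⟨b, hb⟩ := hns (k / θ)
      obtain ⟨y, hy⟩ := (C.h₂.nondegenerate _ (sub_ne_zero.2 hb)).2
      apply hy
      have e' : θ * f₂ (S b) y = k * f₂ b y := congrFun (congrFun e b) y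
      rw [Unit.sub_left C.h₂, Unit.smul_left C.h₂]
      field_simp
      linear_combination e'
  have hiso : f (pt T v w) (pt T v w) = 0 := by rw [C.form, hv, zero_mul, mul_zero]
  refine ⟨v, w, hv0, hw0, hv, hw, hiso, fun d hd => ?_⟩
  have hk : σ (d * θ * c) = d * θ * c := by
    rw [map_mul, map_mul, c_fixed C, hσθ, eq_neg_of_add_eq_zero_right hd]; ring
  obtain ⟨z', hz', S', hS', e⟩ := Fs.smul _ hk _ hL
  suffices utv C.hU (pt T v w) d = z' from this ▸ hz'
  refine gl_ext_pt T fun x y => ?_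
  rw [Unit.act_utv C.hU hiso, hS' x y, C.form]
  congr 1
  have hS'y : S' y = (d * c * f₂ y w) • w := by
    by_contra hne
    obtain ⟨t, ht⟩ := (C.h₂.nondegenerate _ (sub_ne_zero.2 hne)).2
    apply ht
    have e' : (d * θ * c) * (f₂ y w * f₂ w t) = θ * f₂ (S' y) t := congrFun (congrFun e y) t
    have e'' : f₂ (S' y) t = d * c * f₂ y w * f₂ w t := by
      apply mul_left_cancel₀ hθ0
      linear_combination -e'
    rw [Unit.sub_left C.h₂, Unit.smul_left C.h₂, e'', sub_self]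
  rw [hS'y, pt_smul_right, smul_smul]
  congr 1; ring

/-- coordinates with respect to a hyperbolic pair of the left factor -/
theorem expandL (h2 : n₁ = 2) {v v' : Fin n₁ → F} (hv : f₁ v v = 0) (hv' : f₁ v' v' = 0) (hv'v : f₁ v' v = 1)
    (hvv' : f₁ v v' = 1) (y : ι → F) :
    y = pt T v (cL T (flinU C.h₁ v') y) + pt T v' (cL T (flinU C.h₁ v) y) := by
  have : LinearMap.id = ptR T v ∘ₗ cL T (flinU C.h₁ v') + ptR T v' ∘ₗ cL T (flinU C.h₁ v) := pt_ext T fun u b => by
    rw [LinearMap.id_apply, LinearMap.add_apply]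
    simp only [LinearMap.comp_apply, cL_pt, Unit.flinU_apply, ptR_apply]
    conv_lhs => rw [plane_expand C.h₁ (by rw [Fintype.card_fin, h2]) hv hv' hv'v hvv' u]
    rw [pt_add_left, pt_smul_left, pt_smul_left, pt_smul_right, pt_smul_right]
  exact LinearMap.congr_fun this y

theorem form_left (x : ι → F) (v : Fin n₁ → F) (b : Fin n₂ → F) :
    f x (pt T v b) = c * f₂ (cL T (flinU C.h₁ v) x) b := by
  let L : (ι → F) →ₗ[F] F := c • (flinU C.h₂ b ∘ₗ cL T (flinU C.h₁ v))
  have : flinU C.hU (pt T v b) = L := by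
    refine pt_ext T fun u y => ?_
    show f (pt T u y) (pt T v b) = c * f₂ (cL T (flinU C.h₁ v) (pt T u y)) b
    rw [C.form, cL_pt, Unit.smul_left C.h₂, Unit.flinU_apply]
  exact LinearMap.congr_fun this x

/-- isometries fixing `v ⊗ F^3` pointwise are left top elements -/
theorem exists_isTopL (h2 : n₁ = 2) {v : Fin n₁ → F} (hv0 : v ≠ 0) (hv : f₁ v v = 0) {z : GL ι F}
    (hz : z ∈ uiso f) (hfix : ∀ b, act z (pt T v b) = pt T v b) : ∃ S, IsTopL T f₁ v z S := by
  obtain ⟨v', hv', hv'v, hvv'⟩ := exists_partner C.h₁ hv0 hv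
  let E : (Fin n₂ → F) →ₗ[F] (ι → F) := (act z - LinearMap.id) ∘ₗ ptR T v'
  refine ⟨cL T (flinU C.h₁ v') ∘ₗ E, fun u b => ?_⟩
  have hEb : E b = pt T v (cL T (flinU C.h₁ v') (E b)) := by
    have h0 : cL T (flinU C.h₁ v) (E b) = 0 := by
      by_contra hne
      obtain ⟨x, hx⟩ := (C.h₂.nondegenerate _ hne).2
      apply hx
      have e : f (E b) (pt T v x) = 0 := by
        show f (act z (pt T v' b) - pt T v' b) (pt T v x) = 0
        rw [Unit.sub_left C.hU]
        conv_lhs => arg 1; rw [← hfix x, Unit.mem_uiso.1 hz]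
        exact sub_self _
      rw [form_left C] at e
      exact (mul_eq_zero.1 e).resolve_left C.c_ne
    conv_lhs => rw [expandL C h2 hv hv' hv'v hvv' (E b)]
    rw [h0, pt_zero_right, add_zero]
  conv_lhs => rw [plane_expand C.h₁ (by rw [Fintype.card_fin, h2]) hv hv' hv'v hvv' u, pt_add_left,
    pt_smul_left, pt_smul_left, map_add, map_smul, map_smul, hfix]
  conv_rhs => rw [plane_expand C.h₁ (by rw [Fintype.card_fin, h2]) hv hv' hv'v hvv' u, pt_add_left,
    pt_smul_left, pt_smul_left]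
  show _ = _ + _ • pt T v (cL T (flinU C.h₁ v') (E b))
  rw [← hEb]
  show _ = _ + _ • (act z (pt T v' b) - pt T v' b)
  have e : f₁ (f₁ u v' • v + f₁ u v • v') v = f₁ u v := by
    rw [← plane_expand C.h₁ (by rw [Fintype.card_fin, h2]) hv hv' hv'v hvv' u]
  rw [e]
  module

/-- the stabiliser in `M` of a totally singular `v ⊗ F^3` consists of tensor products -/
theorem stab_left_tensor (h2 : n₁ = 2) (hZ : TopScalarL T f₁ M) {v : Fin n₁ → F} (hv0 : v ≠ 0)
    (hv : f₁ v v = 0) {g : GL ι F} (hg : g ∈ M) (hst : ∀ b, ∃ b', act g (pt T v b) = pt T v b') :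
    g ∈ Cfsg.Geo.tensorProductSubgroup n₁ n₂ T.e T.P := by
  classical
  obtain ⟨v', hv', hv'v, hvv'⟩ := exists_partner C.h₁ hv0 hv
  have hgU := (C.le hg).1
  let A : (Fin n₂ → F) →ₗ[F] (Fin n₂ → F) := cL T (flinU C.h₁ v') ∘ₗ act g ∘ₗ ptR T v
  have hA : ∀ b, act g (pt T v b) = pt T v (A b) := fun b => by
    obtain ⟨b', hb'⟩ := hst b
    show _ = pt T v (cL T (flinU C.h₁ v') (act g (pt T v b)))
    rw [hb', cL_pt, Unit.flinU_apply, hvv', one_smul]
  have hAinj : Function.Injective A := fun b b' e => by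
    have h1 : pt T v b = pt T v b' := act_injective g (by rw [hA, hA, e])
    have h2' : pt T v (b - b') = 0 := by rw [pt_sub_right, h1, sub_self]
    exact sub_eq_zero.1 (((pt_eq_zero T).1 h2').resolve_left hv0)
  -- the adjoint
  let Q : (Fin n₂ → F) →ₗ[F] (Fin n₂ → F) := cL T (flinU C.h₁ v) ∘ₗ act g⁻¹ ∘ₗ ptR T v'
  have hQ : ∀ x b, f₂ (Q x) b = f₂ x (A b) := by
    intro x b
    have e : f (act g⁻¹ (pt T v' x)) (pt T v b) = f (pt T v' x) (pt T v (A b)) := by
      conv_rhs => rw [← hA, ← act_act_inv g (pt T v' x), Unit.mem_uiso.1 hgU]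
    rw [form_left C, C.form, hv'v, one_mul] at e
    exact mul_left_cancel₀ C.c_ne e
  obtain ⟨θ, hθ0, hθ⟩ := Unit.exists_skew C.hU.ne_refl C.hU.involutive
  obtain ⟨hsM, hs⟩ := isTopL_one C v hθ hv
  have hzM : g * gl T (utv C.h₁ v θ) 1 * g⁻¹ ∈ M := M.mul_mem (M.mul_mem hg hsM) (M.inv_mem hg)
  have hgv : ∀ b, ∃ b', act g⁻¹ (pt T v b) = pt T v b' := fun b => by
    obtain ⟨x, hx⟩ := (Finite.injective_iff_surjective.1 hAinj) b
    exact ⟨x, act_injective g (by rw [act_act_inv, hA, hx])⟩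
  have hsapp : ∀ y, act (gl T (utv C.h₁ v θ) 1) y = y + pt T v (θ • cL T (flinU C.h₁ v) y) := fun y => by
    have : act (gl T (utv C.h₁ v θ) 1) = LinearMap.id + ptR T v ∘ₗ (θ • cL T (flinU C.h₁ v)) :=
      pt_ext T fun u b => by
        rw [hs u b, LinearMap.add_apply, LinearMap.id_apply]
        show _ = _ + pt T v (θ • cL T (flinU C.h₁ v) (pt T u b))
        rw [cL_pt, Unit.flinU_apply, LinearMap.smul_apply, LinearMap.id_apply, pt_smul_right, pt_smul_right,
          pt_smul_right, smul_smul, smul_smul, mul_comm]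
    rw [this]; rfl
  have hzfix : ∀ b, act (g * gl T (utv C.h₁ v θ) 1 * g⁻¹) (pt T v b) = pt T v b := fun b => by
    obtain ⟨b', hb'⟩ := hgv b
    rw [act_mul, act_mul, hb', hsapp, cL_pt, Unit.flinU_apply, hv, zero_smul, smul_zero, pt_zero_right, add_zero,
      ← hb', act_act_inv]
  obtain ⟨S, hS⟩ := exists_isTopL C h2 hv0 hv (C.le hzM).1 hzfix
  obtain ⟨k₁, hk₁⟩ := hZ v hv0 hv _ hzM S hS
  have hAQ : ∀ x, A (Q x) = (θ⁻¹ * k₁) • x := fun x => by
    have e := hS v' x
    rw [act_mul, act_mul, hsapp, map_add, act_act_inv, hA, map_smul A, hv'v, one_smul, hk₁, add_right_inj] at e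
    have e' := congrArg (cL T (flinU C.h₁ v')) e
    simp only [cL_pt, Unit.flinU_apply, hvv', one_smul] at e'
    have e'' : θ • A (Q x) = k₁ • x := e'
    rw [mul_smul, ← e'', inv_smul_smul₀ hθ0]
  obtain ⟨m, hm⟩ : ∃ m, m = θ⁻¹ * k₁ := ⟨_, rfl⟩
  rw [← hm] at hAQ
  obtain ⟨x₀, y₀, hxy⟩ := exists_ne_two C.h₂ (lt_of_lt_of_le (by norm_num) C.three)
  have hQA : ∀ x, Q (A x) = m • x := fun x => hAinj (by rw [hAQ, map_smul])
  have hsim : ∀ x y, f₂ (A x) (A y) = m * f₂ x y := fun x y => by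
    rw [← hQ, hQA, Unit.smul_left C.h₂]
  have hmfix : σ m = m := by
    have e := Unit.herm' C.h₂ (A y₀) (A x₀)
    rw [hsim, hsim, map_mul, Unit.herm' C.h₂] at e
    exact mul_right_cancel₀ hxy e
  have hm0 : m ≠ 0 := by
    intro h0
    obtain ⟨x, hx⟩ := (Finite.injective_iff_surjective.1 hAinj) x₀
    obtain ⟨y, hy⟩ := (Finite.injective_iff_surjective.1 hAinj) y₀
    apply hxy
    rw [← hx, ← hy, hsim, h0, zero_mul]
  obtain ⟨l, hl⟩ := Unit.exists_norm C.hU.involutive C.hU.ne_refl m hmfix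
  have hl0 : l ≠ 0 := by rintro rfl; rw [zero_mul] at hl; exact hm0 hl.symm
  obtain ⟨α, hα⟩ := exists_gl_of_injective (l⁻¹ • A) (fun x y e => hAinj (by
    have := congrArg (fun z => l • z) e
    simpa [smul_inv_smul₀ hl0] using this))
  have hαU : α ∈ uiso f₂ := Unit.mem_uiso.2 fun x y => by
    rw [hα, hα, LinearMap.smul_apply, LinearMap.smul_apply, Unit.smul_left C.h₂, Unit.smul_right C.h₂, hsim, ← hl,
      map_inv₀]
    have := (map_ne_zero σ).2 hl0
    field_simp
  let Bm : (Fin n₁ → F) →ₗ[F] (Fin n₁ → F) :=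
    (flinU C.h₁ v').smulRight (l • v) + (flinU C.h₁ v).smulRight ((σ l)⁻¹ • v')
  have hBm : ∀ u, Bm u = f₁ u v' • (l • v) + f₁ u v • ((σ l)⁻¹ • v') := fun u => by
    simp [Bm, Unit.flinU_apply]
  have hBiso : ∀ x y, f₁ (Bm x) (Bm y) = f₁ x y := fun x y => by
    conv_rhs => rw [plane_expand C.h₁ (by rw [Fintype.card_fin, h2]) hv hv' hv'v hvv' x,
      plane_expand C.h₁ (by rw [Fintype.card_fin, h2]) hv hv' hv'v hvv' y]
    simp only [hBm, Unit.add_left C.h₁, Unit.add_right C.h₁, Unit.smul_left C.h₁, Unit.smul_right C.h₁, hv, hv',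
      hv'v, hvv', map_inv₀, C.hU.involutive]
    have := (map_ne_zero σ).2 hl0
    field_simp
    ring
  obtain ⟨β, hβ⟩ := exists_gl_of_injective Bm (fun x y e => Unit.flinU_injective C.h₁ (LinearMap.ext fun z => by
    show f₁ z x = f₁ z y
    rw [← hBiso z x, ← hBiso z y, e]))
  have hβU : β ∈ uiso f₁ := Unit.mem_uiso.2 fun x y => by rw [hβ, hβ, hBiso]
  set h₀ := gl T β α with hh₀
  have hρfix : ∀ b, act (h₀⁻¹ * g) (pt T v b) = pt T v b := fun b => by
    apply act_injective h₀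
    rw [act_mul, act_act_inv, hA, hh₀, act_gl_pt, hβ, hα, hBm, hvv', hv, zero_smul, add_zero, one_smul,
      LinearMap.smul_apply, pt_smul_comm, smul_inv_smul₀ hl0]
  have hρU : h₀⁻¹ * g ∈ uiso f := mul_mem (inv_mem (gl_mem_uiso C hβU hαU)) hgU
  obtain ⟨S', hS'⟩ := exists_isTopL C h2 hv0 hv hρU hρfix
  have hdetρ : ((h₀⁻¹ * g : GL ι F) : Matrix ι ι F).det = 1 := by
    refine det_one_of_unipotent fun x => ?_
    have happ : ∀ y, act (h₀⁻¹ * g) y = y + pt T v (S' (cL T (flinU C.h₁ v) y)) := fun y => by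
      have : act (h₀⁻¹ * g) = LinearMap.id + ptR T v ∘ₗ S' ∘ₗ cL T (flinU C.h₁ v) := pt_ext T fun u b => by
        rw [hS' u b, LinearMap.add_apply, LinearMap.id_apply]
        show _ = _ + pt T v (S' (cL T (flinU C.h₁ v) (pt T u b)))
        rw [cL_pt, Unit.flinU_apply, map_smul, pt_smul_right]
      rw [this]; rfl
    simp only [happ, map_add, cL_pt, Unit.flinU_apply, hv, zero_smul, add_zero]
    module
  have hh₀M : h₀ ∈ M := by
    refine C.ge β α ⟨gl_mem_uiso C hβU hαU, MonoidHom.mem_ker.2 (Units.ext ?_)⟩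
    have hg1 : (g : Matrix ι ι F).det = 1 := by
      have := congrArg Units.val (MonoidHom.mem_ker.1 (C.le hg).2)
      rwa [Matrix.GeneralLinearGroup.val_det_apply] at this
    have : (g : Matrix ι ι F) = (h₀ : Matrix ι ι F) * ((h₀⁻¹ * g : GL ι F) : Matrix ι ι F) := by
      rw [← Units.val_mul, mul_inv_cancel_left]
    rw [this, Matrix.det_mul, hdetρ, mul_one] at hg1
    rw [Matrix.GeneralLinearGroup.val_det_apply]
    exact hg1
  obtain ⟨k, hk⟩ := hZ v hv0 hv _ (M.mul_mem (M.inv_mem hh₀M) hg) S' hS'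
  have hρeq : h₀⁻¹ * g = gl T (utv C.h₁ v k) 1 := gl_ext_pt T fun u b => by
    rw [hS' u b, hk, act_gl_pt, act_one, Unit.act_utv C.h₁ hv, pt_add_left, pt_smul_left, pt_smul_right,
      smul_smul, mul_comm]
  rw [show g = h₀ * (h₀⁻¹ * g) by group, hρeq]
  exact mul_mem (gl_mem T _ _) (gl_mem T _ _)

/-- `M` is a group of tensor products when its top elements on both sides are scalar -/
theorem le_tensor_six (h2 : n₁ = 2) (h3 : n₂ = 3) {q : ℕ} (hq : 3 ≤ q) (hσ : ∀ x, σ x = x ^ q)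
    (hF : Fintype.card F = q ^ 2) (hZR : TopScalar T f₂ M) (hZL : TopScalarL T f₁ M) :
    M ≤ Cfsg.Geo.tensorProductSubgroup n₁ n₂ T.e T.P := by
  classical
  obtain ⟨p, hpC⟩ := CharP.exists F
  haveI := hpC
  haveI : Fact p.Prime := ⟨CharP.char_is_prime F p⟩
  obtain ⟨θ, hθ0, hθ⟩ := Unit.exists_skew C.hU.ne_refl C.hU.involutive
  set H := M ⊓ Cfsg.Geo.tensorProductSubgroup n₁ n₂ T.e T.P with hH
  let X : Set (GL ι F) :=
    {r | ∃ w d, w ≠ 0 ∧ f₂ w w = 0 ∧ d + σ d = 0 ∧ d ≠ 0 ∧ r = root T C.h₂ w d}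
  have hXH : X ⊆ (H : Set (GL ι F)) := by
    rintro _ ⟨w, d, -, hw, hd, -, rfl⟩
    exact ⟨root_mem C hw hd, gl_mem T _ _⟩
  have hXp : ∀ r ∈ X, ∃ k, r ^ p ^ k = 1 := by
    rintro _ ⟨w, d, -, hw, -, -, rfl⟩
    refine ⟨1, ?_⟩
    rw [pow_one, root_pow C.h₂ hw, CharP.cast_eq_zero, zero_mul, root, Unit.utv_zero, gl_one]
  have rig : ∀ g ∈ M, ∀ r ∈ X, g * r * g⁻¹ ∈ H → g ∈ H :=
    root_rig C fun w hw0 hw d _ hd0 g hg hcomm => centralizer_tensor C hZR hw0 hw hd0 hg hcomm
  have hperp3 : ∀ x : Fin n₂ → F, 2 ≤ finrank F (uperp C.h₂ (F ∙ x)) := fun x => by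
    have h1 := Unit.finrank_uperp_ge C.h₂ (F ∙ x)
    have h2' : finrank F (F ∙ x) ≤ 1 := (finrank_span_le_card _).trans (by simp)
    rw [Fintype.card_fin] at h1
    omega
  have hkill : ∀ g ∈ M, ∀ u b w, f₁ u u = 0 → w ≠ 0 → f₂ w w = 0 → proj T C.h₂ w (act g (pt T u b)) = 0 →
      ∃ a x, f₁ a a = 0 ∧ act g (pt T u b) = pt T a x := by
    intro g hg u b w hu hw0 hw hk
    obtain ⟨w', hwb, hw'0, hw'⟩ := exists_iso_in C.h₂ (hperp3 b)
    have hvw' : f₂ b w' = 0 := Unit.eq_zero_symm C.h₂ (hwb b (Submodule.mem_span_singleton_self b))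
    obtain ⟨h, hh, he⟩ := exists_mem_orbit_of_rigid (p := p) (inf_le_left : H ≤ M) X hXH hXp rig
      (stabVec (pt T u b)) hg ⟨w', θ, hw'0, hw', hθ, hθ0, rfl⟩ ⟨w, θ, hw0, hw, hθ, hθ0, rfl⟩
      ((root_fix_iff C hw' hw'0 hθ0).2 (by rw [proj_pt, hvw', zero_smul]))
      (show act _ (pt T u b) = pt T u b by
        rw [act_mul, act_mul, (root_fix_iff C hw hw0 hθ0).2 hk, act_inv_act])
    obtain ⟨α, β, hab⟩ := exists_of_mem T hh.2
    refine ⟨act α u, act β b, ?_, ?_⟩
    · obtain ⟨y, z, hyz⟩ := exists_ne_two C.h₂ (lt_of_lt_of_le (by norm_num) C.three)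
      obtain ⟨y', hy'⟩ : ∃ y', act β y' = y := ⟨_, act_act_inv β y⟩
      obtain ⟨z', hz'⟩ : ∃ z', act β z' = z := ⟨_, act_act_inv β z⟩
      have e := Unit.mem_uiso.1 (C.le hh.1).1 (pt T u y') (pt T u z')
      rw [hab, act_gl_pt, act_gl_pt, hy', hz', C.form, C.form, hu, zero_mul, mul_zero] at e
      exact (mul_eq_zero.1 ((mul_eq_zero.1 e).resolve_left C.c_ne)).resolve_right hyz
    · have e1 : act (h⁻¹ * g) (pt T u b) = pt T u b := he
      rw [act_mul] at e1
      rw [← act_gl_pt, ← hab]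
      conv_rhs => rw [← e1, act_act_inv]
  intro g hg
  obtain ⟨v, -, hv0, hv⟩ := exists_iso_in C.h₁ (S := (⊤ : Submodule F (Fin n₁ → F)))
    (by rw [finrank_top, Module.finrank_fin_fun]; omega)
  -- it suffices that a root element stabilises the image
  suffices H' : ∃ w, w ≠ 0 ∧ f₂ w w = 0 ∧
      ∀ b, ∃ b', pt T (proj T C.h₂ w (act g (pt T v b))) w = act g (pt T v b') by
    obtain ⟨w, hw0, hw, hst⟩ := H'
    let W : Submodule F (ι → F) := LinearMap.range (ptR T v)
    obtain ⟨h, hh, he⟩ := exists_mem_orbit_of_rigid (p := p) (inf_le_left : H ≤ M) X hXH hXp rig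
      (Cfsg.Geo.subspaceStabilizer W) hg ⟨w, θ, hw0, hw, hθ, hθ0, rfl⟩ ⟨w, θ, hw0, hw, hθ, hθ0, rfl⟩
      (mem_subspaceStabilizer_of_le (by
        rintro _ ⟨b, rfl⟩
        rw [ptR_apply, act_root C.h₂ hw, proj_pt, pt_smul_left, smul_smul, ← pt_smul_right, ← pt_add_right]
        exact ⟨_, rfl⟩))
      (mem_subspaceStabilizer_of_le (by
        rintro _ ⟨b, rfl⟩
        obtain ⟨b', hb'⟩ := hst b
        rw [ptR_apply, act_mul, act_mul, act_root C.h₂ hw, hb', map_add, map_smul, act_inv_act, act_inv_act,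
          ← pt_smul_right, ← pt_add_right]
        exact ⟨_, rfl⟩))
    have hm : h⁻¹ * g ∈ M := M.mul_mem (M.inv_mem hh.1) hg
    have := stab_left_tensor C h2 hZL hv0 hv hm fun b => by
      obtain ⟨b', hb'⟩ := (mem_subspaceStabilizer.1 he (pt T v b)).1 ⟨b, rfl⟩
      exact ⟨b', hb'.symm⟩
    rw [show g = h * (h⁻¹ * g) by group]
    exact mul_mem hh.2 this
  let G : (Fin n₂ → F) →ₗ[F] (ι → F) := act g ∘ₗ ptR T v
  have hG : Function.Injective G := fun x y e => by
    have h1 : pt T v x = pt T v y := act_injective g e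
    have h2' : pt T v (x - y) = 0 := by rw [pt_sub_right, h1, sub_self]
    exact sub_eq_zero.1 (((pt_eq_zero T).1 h2').resolve_left hv0)
  set Y := LinearMap.range G with hY
  have hYd : finrank F Y = 3 := by rw [hY, LinearMap.finrank_range_of_inj hG, Module.finrank_fin_fun, h3]
  have hYkill : ∀ y ∈ Y, ∀ w, w ≠ 0 → f₂ w w = 0 → proj T C.h₂ w y = 0 → ∃ a x, f₁ a a = 0 ∧ y = pt T a x := by
    rintro _ ⟨b, rfl⟩ w hw0 hw hk
    exact hkill g hg v b w hv hw0 hw hk
  have hYts : ∀ y ∈ Y, ∀ y' ∈ Y, f y y' = 0 := by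
    rintro _ ⟨b, rfl⟩ _ ⟨b', rfl⟩
    show f (act g (pt T v b)) (act g (pt T v b')) = 0
    rw [Unit.mem_uiso.1 (C.le hg).1, C.form, hv, zero_mul, mul_zero]
  -- two independent pure vectors of `Y` with a common first factor
  obtain ⟨a, ha0, ha, hB2⟩ : ∃ a, a ≠ 0 ∧ f₁ a a = 0 ∧ 2 ≤ finrank F (Y.comap (ptR T a)) := by
    by_contra hno
    push Not at hno
    obtain ⟨v', hv', hv'v, hvv'⟩ := exists_partner C.h₁ hv0 hv
    obtain ⟨w₀, hw₀0, hw₀⟩ := exists_iso C
    obtain ⟨w₀', hw₀', hw₀'w, hww₀'⟩ := exists_partner_top C hw₀0 hw₀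
    set P := F ∙ w₀ ⊔ F ∙ w₀' with hP
    obtain ⟨φ, hφ, hφφ⟩ : ∃ φ ∈ uperp C.h₂ P, f₂ φ φ ≠ 0 := by
      obtain ⟨φ, hφ, hφ0⟩ := Submodule.exists_mem_ne_zero_of_ne_bot (p := uperp C.h₂ P) fun e => by
        have h1 := Unit.finrank_uperp_ge C.h₂ P
        have h4 : finrank F P ≤ 2 := by
          refine (Submodule.finrank_add_le_finrank_add_finrank _ _).trans ?_
          have h5 := finrank_span_le_card (R := F) ({w₀} : Set (Fin n₂ → F))
          have h6 := finrank_span_le_card (R := F) ({w₀'} : Set (Fin n₂ → F))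
          simp only [Set.toFinset_singleton, Finset.card_singleton] at h5 h6
          omega
        rw [e, finrank_bot, Fintype.card_fin] at h1
        omega
      refine ⟨φ, hφ, fun h => ?_⟩
      have h1 : f₂ φ w₀ = 0 := hφ w₀ (Submodule.mem_sup_left (Submodule.mem_span_singleton_self _))
      have h2' : f₂ φ w₀' = 0 := hφ w₀' (Submodule.mem_sup_right (Submodule.mem_span_singleton_self _))
      obtain ⟨k, hk⟩ := Submodule.mem_span_singleton.1 (Unit.dep_of_iso_orth_three C.h₂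
        (by rw [Fintype.card_fin, h3]) hw₀0 hw₀ h (Unit.eq_zero_symm C.h₂ h1))
      rw [← hk, Unit.smul_left C.h₂, hww₀', mul_one] at h2'
      exact hφ0 (by rw [← hk, h2', zero_smul])
    have hφw : f₂ φ w₀ = 0 := hφ w₀ (Submodule.mem_sup_left (Submodule.mem_span_singleton_self _))
    have hφw' : f₂ φ w₀' = 0 := hφ w₀' (Submodule.mem_sup_right (Submodule.mem_span_singleton_self _))
    let wt : F × F → (Fin n₂ → F) := fun te => w₀' + te.1 • φ + te.2 • w₀
    let Par : Finset (F × F) :=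
      Finset.univ.filter fun te => te.2 + σ te.2 + te.1 * σ te.1 * f₂ φ φ = 0
    have hwt : ∀ te ∈ Par, wt te ≠ 0 ∧ f₂ (wt te) (wt te) = 0 := by
      intro te hte
      refine ⟨fun h0 => ?_, ?_⟩
      · have e := congrArg (fun x => f₂ x w₀) h0
        simp only [wt, Unit.add_left C.h₂, Unit.smul_left C.h₂, hw₀'w, hφw, hw₀, Unit.zero_left C.h₂, mul_zero,
          add_zero] at e
        exact one_ne_zero e
      · simp only [wt, Unit.add_left C.h₂, Unit.add_right C.h₂, Unit.smul_left C.h₂, Unit.smul_right C.h₂, hw₀',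
          hw₀'w, hww₀', hφw, hφw', Unit.eq_zero_symm C.h₂ hφw, Unit.eq_zero_symm C.h₂ hφw', hw₀]
        linear_combination (Finset.mem_filter.1 hte).2
    obtain ⟨hK1, hK2⟩ := skewSet_card (σ := σ) (by omega) hσ hF
    have hcardP : q ^ 2 * q ≤ Par.card := by
      choose e₀ he₀ using fun t : F => Unit.exists_trace C.hU.involutive C.hU.ne_refl (-(t * σ t * f₂ φ φ)) (by
        rw [map_neg, map_mul, map_mul, C.hU.involutive, Unit.herm' C.h₂]; ring)
      have h1 : ((Finset.univ : Finset F) ×ˢ skewSet σ).card ≤ Par.card := by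
        refine Finset.card_le_card_of_injOn (fun x => (x.1, e₀ x.1 + x.2)) (fun x hx => ?_) ?_
        · have h1 := (Finset.mem_filter.1 (Finset.mem_product.1 (Finset.mem_coe.1 hx)).2).2
          refine Finset.mem_coe.2 (Finset.mem_filter.2 ⟨Finset.mem_univ _, ?_⟩)
          rw [map_add]
          linear_combination h1 + he₀ x.1
        · intro x _ y _ e
          obtain ⟨e1, e2⟩ := Prod.ext_iff.1 e
          dsimp only at e1 e2
          rw [e1, add_right_inj] at e2
          exact Prod.ext e1 e2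
      rw [Finset.card_product, Finset.card_univ, hF] at h1
      exact (Nat.mul_le_mul le_rfl hK2).trans h1
    let AL : Finset (Fin n₁ → F) := insert v ((skewSet σ).image fun e => v' + e • v)
    have hAL : AL.card ≤ q + 1 :=
      (Finset.card_insert_le _ _).trans (Nat.add_le_add_right (Finset.card_image_le.trans hK1) 1)
    let bad : (Fin n₁ → F) → Finset (F × F) := fun a =>
      Par.filter fun te => ∃ x, x ≠ 0 ∧ pt T a x ∈ Y ∧ f₂ x (wt te) = 0
    have hcover : Par ⊆ AL.biUnion bad := by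
      intro te hte
      obtain ⟨hw0, hw⟩ := hwt te hte
      have hL : ¬ Function.Injective (proj T C.h₂ (wt te) ∘ₗ G) := fun h => by
        have := LinearMap.finrank_le_finrank_of_injective h
        simp only [Module.finrank_fin_fun] at this
        omega
      obtain ⟨b, hb, hb0⟩ := Submodule.exists_mem_ne_zero_of_ne_bot fun h => hL (LinearMap.ker_eq_bot.1 h)
      have hk : proj T C.h₂ (wt te) (G b) = 0 := LinearMap.mem_ker.1 hb
      obtain ⟨a, x, ha, he⟩ := hYkill _ ⟨b, rfl⟩ _ hw0 hw hk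
      have hne : pt T a x ≠ 0 := fun h => hb0 (hG (by rw [he, h, map_zero]))
      rw [Ne, pt_eq_zero, not_or] at hne
      have hxw : f₂ x (wt te) = 0 := by
        rw [he, proj_pt, smul_eq_zero] at hk
        exact hk.resolve_right hne.1
      obtain ⟨a₀, ha₀, k, hk0, hak⟩ : ∃ a₀ ∈ AL, ∃ k : F, k ≠ 0 ∧ a = k • a₀ := by
        have hexp := plane_expand C.h₁ (by rw [Fintype.card_fin, h2]) hv hv' hv'v hvv' a
        rcases eq_or_ne (f₁ a v) 0 with hs | hs
        · refine ⟨v, Finset.mem_insert_self _ _, f₁ a v', fun h => hne.1 ?_, ?_⟩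
          · rw [hexp, h, hs, zero_smul, zero_smul, add_zero]
          · conv_lhs => rw [hexp, hs, zero_smul, add_zero]
        · refine ⟨v' + (f₁ a v' / f₁ a v) • v, Finset.mem_insert_of_mem (Finset.mem_image.2
            ⟨_, Finset.mem_filter.2 ⟨Finset.mem_univ _, ?_⟩, rfl⟩), f₁ a v, hs, ?_⟩
          · rw [hexp] at ha
            simp only [Unit.add_left C.h₁, Unit.add_right C.h₁, Unit.smul_left C.h₁, Unit.smul_right C.h₁, hv,
              hv', hv'v, hvv'] at ha
            have := (map_ne_zero σ).2 hs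
            rw [map_div₀]
            field_simp
            linear_combination ha
          · rw [smul_add, smul_smul, mul_div_cancel₀ _ hs, add_comm, ← hexp]
      refine Finset.mem_biUnion.2 ⟨a₀, ha₀, Finset.mem_filter.2 ⟨hte, k • x,
        smul_ne_zero hk0 hne.2, ?_, by rw [Unit.smul_left C.h₂, hxw, mul_zero]⟩⟩
      rw [← pt_smul_comm, ← hak, ← he]
      exact ⟨b, rfl⟩
    have hbad : ∀ a ∈ AL, (bad a).card ≤ q + 1 := by
      intro a ha
      have haa : a ≠ 0 ∧ f₁ a a = 0 := by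
        rcases Finset.mem_insert.1 ha with rfl | ha
        · exact ⟨hv0, hv⟩
        · obtain ⟨e, he, rfl⟩ := Finset.mem_image.1 ha
          refine ⟨fun h0 => ?_, ?_⟩
          · have e1 := congrArg (fun x => f₁ x v) h0
            simp only [Unit.add_left C.h₁, Unit.smul_left C.h₁, hv'v, hv, Unit.zero_left C.h₁, mul_zero,
              add_zero] at e1
            exact one_ne_zero e1
          · simp only [Unit.add_left C.h₁, Unit.add_right C.h₁, Unit.smul_left C.h₁, Unit.smul_right C.h₁, hv,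
              hv', hv'v, hvv']
            linear_combination (Finset.mem_filter.1 he).2
      by_cases hex : ∃ x, x ≠ 0 ∧ pt T a x ∈ Y
      swap
      · rw [Finset.card_eq_zero.2 (Finset.filter_eq_empty_iff.2 fun te _ ⟨x, hx0, hx, _⟩ => hex ⟨x, hx0, hx⟩)]
        omega
      obtain ⟨x, hx0, hxY⟩ := hex
      have huniq : ∀ x', pt T a x' ∈ Y → x' ∈ F ∙ x := by
        intro x' hx'
        by_contra hind
        refine absurd (Submodule.finrank_mono (show F ∙ x ⊔ F ∙ x' ≤ Y.comap (ptR T a) from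
          sup_le ((Submodule.span_singleton_le_iff_mem _ _).2 hxY)
            ((Submodule.span_singleton_le_iff_mem _ _).2 hx'))) ?_
        rw [Submodule.finrank_sup_span_singleton hind, finrank_span_singleton hx0]
        have := hno a haa.1 haa.2
        omega
      have hsub : bad a ⊆ Par.filter fun te => f₂ x (wt te) = 0 := by
        intro te hte
        obtain ⟨hte, x', hx'0, hx', hxw⟩ := Finset.mem_filter.1 hte
        refine Finset.mem_filter.2 ⟨hte, ?_⟩
        obtain ⟨k, rfl⟩ := Submodule.mem_span_singleton.1 (huniq x' hx')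
        rw [Unit.smul_left C.h₂, mul_eq_zero] at hxw
        exact hxw.resolve_left (fun h => hx'0 (by rw [h, zero_smul]))
      refine (Finset.card_le_card hsub).trans ?_
      obtain ⟨A, hA⟩ : ∃ A, A = f₂ φ x := ⟨_, rfl⟩
      obtain ⟨B, hB⟩ : ∃ B, B = f₂ w₀ x := ⟨_, rfl⟩
      obtain ⟨C₀, hC₀⟩ : ∃ C₀, C₀ = f₂ w₀' x := ⟨_, rfl⟩
      have heq : ∀ te ∈ Par.filter (fun te => f₂ x (wt te) = 0), C₀ + te.1 * A + te.2 * B = 0 := by
        intro te hte
        have := Unit.eq_zero_symm C.h₂ (Finset.mem_filter.1 hte).2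
        simp only [wt, Unit.add_left C.h₂, Unit.smul_left C.h₂] at this
        rw [hA, hB, hC₀]; exact this
      rcases eq_or_ne B 0 with hB0 | hB0
      · by_cases hA0 : A = 0
        · have hC0 : C₀ ≠ 0 := by
            intro h
            refine hx0 ?_
            have hd := Unit.finrank_uperp C.h₂ (F ∙ x)
            by_contra hx
            obtain ⟨y, hy⟩ := (C.h₂.nondegenerate x hx0).1
            have htop : F ∙ w₀ ⊔ F ∙ w₀' ⊔ F ∙ φ = ⊤ := Submodule.eq_top_of_finrank_eq (by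
              have hi1 : w₀' ∉ F ∙ w₀ := fun hm => by
                obtain ⟨s, hs⟩ := Submodule.mem_span_singleton.1 hm
                rw [← hs, Unit.smul_left C.h₂, hw₀, mul_zero] at hw₀'w
                exact zero_ne_one hw₀'w
              have hi2 : φ ∉ F ∙ w₀ ⊔ F ∙ w₀' := fun hm => hφφ (hφ φ hm)
              rw [Submodule.finrank_sup_span_singleton hi2, Submodule.finrank_sup_span_singleton hi1,
                finrank_span_singleton hw₀0, Module.finrank_fin_fun, h3])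
            have hle : F ∙ w₀ ⊔ F ∙ w₀' ⊔ F ∙ φ ≤ uperp C.h₂ (F ∙ x) := by
              refine sup_le (sup_le ?_ ?_) ?_ <;> rw [Submodule.span_singleton_le_iff_mem] <;> intro z hz <;>
                obtain ⟨s, rfl⟩ := Submodule.mem_span_singleton.1 hz <;> rw [Unit.smul_right C.h₂]
              · rw [← hB, hB0, mul_zero]
              · rw [← hC₀, h, mul_zero]
              · rw [← hA, hA0, mul_zero]
            rw [htop] at hle
            exact hy ((hle (Submodule.mem_top : y ∈ ⊤)) x (Submodule.mem_span_singleton_self x))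
          rw [Finset.card_eq_zero.2 (Finset.eq_empty_of_forall_notMem fun te hte => hC0 (by
            have := heq te hte
            rwa [hA0, hB0, mul_zero, mul_zero, add_zero, add_zero] at this))]
          omega
        · obtain ⟨t₀, ht₀⟩ : ∃ t₀, t₀ = -C₀ / A := ⟨_, rfl⟩
          obtain ⟨e₀, he₀⟩ := Unit.exists_trace C.hU.involutive C.hU.ne_refl (-(t₀ * σ t₀ * f₂ φ φ)) (by
            rw [map_neg, map_mul, map_mul, C.hU.involutive, Unit.herm' C.h₂]; ring)
          refine le_trans ?_ (Nat.le_succ_of_le hK1)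
          have ht : ∀ te ∈ Par.filter (fun te => f₂ x (wt te) = 0), te.1 = t₀ := fun te hte => by
            have := heq te hte
            rw [hB0, mul_zero, add_zero] at this
            rw [ht₀, eq_div_iff hA0]
            linear_combination this
          refine Finset.card_le_card_of_injOn (fun te => te.2 - e₀) (fun te hte => ?_) fun y hy z hz e =>
            Prod.ext ((ht y (Finset.mem_coe.1 hy)).trans (ht z (Finset.mem_coe.1 hz)).symm) (sub_left_injective e)
          have hp' := (Finset.mem_filter.1 (Finset.mem_filter.1 (Finset.mem_coe.1 hte)).1).2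
          rw [ht te (Finset.mem_coe.1 hte)] at hp'
          refine Finset.mem_coe.2 (Finset.mem_filter.2 ⟨Finset.mem_univ _, ?_⟩)
          rw [map_sub]
          linear_combination hp' - he₀
      · refine le_trans (Finset.card_image_of_injOn (f := Prod.fst) ?_).ge
          (card_roots_norm (q := q) (by omega) hσ hφφ (-(σ A / σ B)) (-(A / B))
            (-(C₀ / B) - σ C₀ / σ B) _ fun t htS => ?_)
        · intro y hy z hz e
          have h1 := heq y (Finset.mem_coe.1 hy)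
          have h2' := heq z (Finset.mem_coe.1 hz)
          refine Prod.ext e (mul_right_cancel₀ hB0 ?_)
          rw [show y.1 = z.1 from e] at h1
          linear_combination h1 - h2'
        · obtain ⟨te, hte, rfl⟩ := Finset.mem_image.1 htS
          have h1 := heq te hte
          have hp' := (Finset.mem_filter.1 (Finset.mem_filter.1 hte).1).2
          have e2 : te.2 = -(C₀ + te.1 * A) / B := by
            rw [eq_div_iff hB0]; linear_combination h1
          rw [e2] at hp'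
          simp only [map_div₀, map_neg, map_add, map_mul] at hp'
          linear_combination hp'
    have h1 := (Finset.card_le_card hcover).trans (Finset.card_biUnion_le_card_mul _ _ _ hbad)
    have h4 : q ^ 2 * q ≤ (q + 1) * (q + 1) :=
      hcardP.trans (h1.trans (Nat.mul_le_mul_right _ hAL))
    nlinarith
  set B := Y.comap (ptR T a) with hB
  have hptinj : Function.Injective (ptR T a) := fun x y e => by
    have h1 : pt T a (x - y) = 0 := by rw [pt_sub_right]; exact sub_eq_zero.2 e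
    exact sub_eq_zero.1 (((pt_eq_zero T).1 h1).resolve_left ha0)
  have hB3 : finrank F B ≤ 3 := by
    have := Submodule.finrank_le B
    rw [Module.finrank_fin_fun] at this
    omega
  by_cases hB3' : finrank F B = 3
  · obtain ⟨w, hw0, hw⟩ := exists_iso C
    have htop : B = ⊤ := Submodule.eq_top_of_finrank_eq (by rw [hB3', Module.finrank_fin_fun, h3])
    have hYle : B.map (ptR T a) = Y := Submodule.eq_of_le_of_finrank_le (Submodule.map_comap_le _ _) (by
      rw [hYd, ← (Submodule.equivMapOfInjective _ hptinj B).finrank_eq, hB3'])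
    refine ⟨w, hw0, hw, fun b => ?_⟩
    obtain ⟨x, -, hx⟩ : act g (pt T v b) ∈ B.map (ptR T a) := hYle.symm ▸ ⟨b, rfl⟩
    have hm : pt T a (f₂ x w • w) ∈ Y := (show f₂ x w • w ∈ B from htop ▸ Submodule.mem_top)
    obtain ⟨b', hb'⟩ := hm
    refine ⟨b', ?_⟩
    rw [← hx, ptR_apply, proj_pt, pt_smul_comm]
    exact hb'.symm
  obtain ⟨p₀, hp₀, hp₀0⟩ := Submodule.exists_mem_ne_zero_of_ne_bot (p := uperp C.h₂ B) fun e => by
    have := Unit.finrank_uperp C.h₂ B
    rw [e, finrank_bot, Fintype.card_fin] at this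
    omega
  have hBperp : uperp C.h₂ B = F ∙ p₀ := (Submodule.eq_of_le_of_finrank_le
    ((Submodule.span_singleton_le_iff_mem _ _).2 hp₀) (by
      have := Unit.finrank_uperp C.h₂ B
      rw [Fintype.card_fin] at this
      rw [finrank_span_singleton hp₀0]
      omega)).symm
  obtain ⟨a', ha', ha'a, haa'⟩ := exists_partner C.h₁ ha0 ha
  have hz : ∀ y ∈ Y, cL T (flinU C.h₁ a) y ∈ F ∙ p₀ := fun y hy => by
    rw [← hBperp]
    intro b hb
    have e := hYts y hy _ hb
    rw [ptR_apply, form_left C] at e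
    exact (mul_eq_zero.1 e).resolve_left C.c_ne
  have hexp := fun y => expandL C h2 ha ha' ha'a haa' y
  by_cases hp₀p : f₂ p₀ p₀ = 0
  · refine ⟨p₀, hp₀0, hp₀p, fun b => ?_⟩
    obtain ⟨k, hk⟩ := Submodule.mem_span_singleton.1 (hz (act g (pt T v b)) ⟨b, rfl⟩)
    have hpB : p₀ ∈ B := by
      rw [← Unit.uperp_uperp C.h₂ B, hBperp]
      intro z hz'
      obtain ⟨s, rfl⟩ := Submodule.mem_span_singleton.1 hz'
      rw [Unit.smul_right C.h₂, hp₀p, mul_zero]
    have hm : pt T a (f₂ (cL T (flinU C.h₁ a') (act g (pt T v b))) p₀ • p₀) ∈ Y :=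
      (show _ • p₀ ∈ B from B.smul_mem _ hpB)
    obtain ⟨b', hb'⟩ := hm
    refine ⟨b', ?_⟩
    have e : proj T C.h₂ p₀ (act g (pt T v b)) =
        f₂ (cL T (flinU C.h₁ a') (act g (pt T v b))) p₀ • a := by
      conv_lhs => rw [hexp (act g (pt T v b)), map_add, proj_pt, proj_pt, ← hk]
      rw [Unit.smul_left C.h₂, hp₀p, mul_zero, zero_smul, add_zero]
    rw [e, pt_smul_comm]
    exact hb'.symm
  exfalso
  -- the complement is anisotropic: a killed vector of rank two
  obtain ⟨w, hwB, hw0, hw⟩ := exists_iso_in C.h₂ hB2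
  have hwp : f₂ w p₀ = 0 := Unit.eq_zero_symm C.h₂ (hp₀ w hwB)
  obtain ⟨y, hyY, hy⟩ : ∃ y ∈ Y, cL T (flinU C.h₁ a) y ≠ 0 := by
    by_contra hno; push Not at hno
    have hle : Y ≤ B.map (ptR T a) := fun y hy => by
      have e := hexp y
      rw [hno y hy, pt_zero_right, add_zero] at e
      exact ⟨_, show pt T a _ ∈ Y by rw [← e]; exact hy, e.symm⟩
    have := Submodule.finrank_mono hle
    rw [hYd, ← (Submodule.equivMapOfInjective _ hptinj B).finrank_eq] at this
    omega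
  obtain ⟨k, hk⟩ := Submodule.mem_span_singleton.1 (hz y hyY)
  have hk0 : k ≠ 0 := fun h => hy (by rw [← hk, h, zero_smul])
  obtain ⟨b₀, hb₀, hb₀w⟩ : ∃ b₀ ∈ B, f₂ b₀ w ≠ 0 := by
    by_contra hno; push Not at hno
    have hm : w ∈ uperp C.h₂ B := fun b hb => Unit.eq_zero_symm C.h₂ (hno b hb)
    rw [hBperp] at hm
    obtain ⟨s, hs⟩ := Submodule.mem_span_singleton.1 hm
    rw [← hs, Unit.smul_left C.h₂, Unit.smul_right C.h₂, mul_eq_zero, mul_eq_zero] at hw
    rcases hw with h | h | h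
    · exact hw0 (by rw [← hs, h, zero_smul])
    · exact hw0 (by rw [← hs, (map_eq_zero σ).1 h, zero_smul])
    · exact hp₀p h
  obtain ⟨X', hX'⟩ : ∃ X', X' = cL T (flinU C.h₁ a') y - (f₂ (cL T (flinU C.h₁ a') y) w / f₂ b₀ w) • b₀ :=
    ⟨_, rfl⟩
  have hmem : ∀ t : F, pt T a (X' + t • w) + pt T a' (k • p₀) ∈ Y := fun t => by
    have e : pt T a (X' + t • w) + pt T a' (k • p₀) =
        y + pt T a (t • w - (f₂ (cL T (flinU C.h₁ a') y) w / f₂ b₀ w) • b₀) := by
      conv_rhs => arg 1; rw [hexp y]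
      rw [hk, hX', pt_add_right, pt_sub_right, pt_sub_right]
      abel
    rw [e]
    exact Y.add_mem hyY (show _ ∈ B from B.sub_mem (B.smul_mem _ hwB) (B.smul_mem _ hb₀))
  have hdep : ∀ t : F, X' + t • w ∈ F ∙ p₀ := fun t => by
    obtain ⟨α, β, -, e⟩ := hYkill _ (hmem t) w hw0 hw (by
      rw [map_add, proj_pt, proj_pt, Unit.add_left C.h₂, Unit.smul_left C.h₂, Unit.smul_left C.h₂, hw,
        Unit.eq_zero_symm C.h₂ hwp, hX', Unit.sub_left C.h₂, Unit.smul_left C.h₂, div_mul_cancel₀ _ hb₀w]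
      simp)
    have e1 := congrArg (cL T (flinU C.h₁ a)) e
    have e2 := congrArg (cL T (flinU C.h₁ a')) e
    simp only [map_add, cL_pt, Unit.flinU_apply, ha, ha', haa', ha'a, zero_smul, zero_add, one_smul, add_zero]
      at e1 e2
    have hs : f₁ α a ≠ 0 := fun h => by
      rw [h, zero_smul, smul_eq_zero] at e1
      exact e1.elim hk0 hp₀0
    rw [e2, show β = ((f₁ α a)⁻¹ * k) • p₀ by rw [mul_smul, e1, inv_smul_smul₀ hs], smul_smul]
    exact Submodule.smul_mem _ _ (Submodule.mem_span_singleton_self _)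
  have h0 := hdep 0
  have h1 := hdep 1
  rw [zero_smul, add_zero] at h0
  rw [one_smul, Submodule.add_mem_iff_right _ h0] at h1
  obtain ⟨s, hs⟩ := Submodule.mem_span_singleton.1 h1
  rw [← hs, Unit.smul_left C.h₂, mul_eq_zero, or_iff_left hp₀p] at hwp
  exact hw0 (by rw [← hs, hwp, zero_smul])

/-- all isotropic vectors from one root group at a pure isotropic ⊗ isotropic vector -/
theorem rootIn_all_six (h2 : n₁ = 2) (h3 : n₂ = 3) (hq3 : ∃ l : F, σ l = l ∧ l ≠ 0 ∧ l ≠ -1)
    {v₀ : Fin n₁ → F} {w₀ : Fin n₂ → F} (hv₀ : v₀ ≠ 0) (hw₀ : w₀ ≠ 0) (hv₀' : f₁ v₀ v₀ = 0)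
    (hw₀' : f₂ w₀ w₀ = 0) (hR : RootIn C.hU M (pt T v₀ w₀)) {y : ι → F} (hy : f y y = 0) :
    RootIn C.hU M y := by
  classical
  have hiso := fun v w => rootIn_iso C hv₀ hw₀ hv₀' hw₀' hR (v := v) (w := w)
  obtain ⟨θ, hθ0, hθ⟩ := Unit.exists_skew C.hU.ne_refl C.hU.involutive
  have hσθ : σ θ = -θ := eq_neg_of_add_eq_zero_right hθ
  obtain ⟨l, hl, hl0, hl1⟩ := hq3
  have hc := C.c_ne
  have hσc := c_fixed C
  have hR0 : RootIn C.hU M 0 := by simpa using Unit.rootIn_smul C.hU hR 0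
  -- a root group added along a skew product
  have hadd : ∀ x u, RootIn C.hU M x → RootIn C.hU M u → f x u ≠ 0 → f x u + σ (f x u) = 0 →
      RootIn C.hU M (x + u) := by
    intro x u hx hu hne hsk
    have := Unit.rootIn_add C.hU hu hx (c := (f x u)⁻¹) (by
      rw [map_inv₀, eq_neg_of_add_eq_zero_right hsk, inv_neg, add_neg_cancel])
    rwa [inv_mul_cancel₀ hne, one_smul] at this
  have hsub : ∀ x u, RootIn C.hU M x → RootIn C.hU M u → f x u ≠ 0 → f x u + σ (f x u) = 0 →
      RootIn C.hU M (x - u) := by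
    intro x u hx hu hne hsk
    have hu' := Unit.rootIn_smul C.hU hu (-1)
    rw [neg_one_smul] at hu'
    have e : f x (-u) = -f x u := by
      rw [← neg_one_smul F u, Unit.smul_right C.hU, map_neg, map_one, neg_one_mul]
    have := hadd x (-u) hx hu' (by rw [e]; exact neg_ne_zero.2 hne)
      (by rw [e, map_neg]; linear_combination -hsk)
    rwa [← sub_eq_add_neg] at this
  have hW : ∀ v, f₁ v v = 0 → ∀ x, RootIn C.hU M (pt T v x) := by
    intro v hv x
    rcases eq_or_ne v 0 with rfl | hv0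
    · rwa [pt_zero_left]
    by_cases hxx : f₂ x x = 0
    · exact hiso v x hv hxx
    obtain ⟨v', hv', hv'v, hvv'⟩ := exists_partner C.h₁ hv0 hv
    -- a decomposition `x = w₁ + w₃`
    obtain ⟨r, hr, hrr⟩ : ∃ r ∈ uperp C.h₂ (F ∙ x), f₂ r r ≠ 0 := by
      by_contra hno; push Not at hno
      have hd := Unit.finrank_uperp C.h₂ (F ∙ x)
      have hx0 : x ≠ 0 := fun h => hxx (by rw [h, Unit.zero_left C.h₂])
      rw [finrank_span_singleton hx0, Fintype.card_fin] at hd
      obtain ⟨a, ha, ha0⟩ := Submodule.exists_mem_ne_zero_of_ne_bot (p := uperp C.h₂ (F ∙ x)) fun e => by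
        rw [e, finrank_bot] at hd; omega
      obtain ⟨b, hb, hba⟩ := SetLike.not_le_iff_exists.1 (show ¬ uperp C.h₂ (F ∙ x) ≤ F ∙ a by
        intro hle; have := Submodule.finrank_mono hle; rw [finrank_span_singleton ha0] at this; omega)
      refine hba (Unit.dep_of_iso_orth_three C.h₂ (by rw [Fintype.card_fin, h3]) ha0 (hno a ha) (hno b hb) ?_)
      obtain ⟨e, he⟩ := Unit.exists_moved C.hU.ne_refl
      have h1 := hno _ (add_mem (Submodule.smul_mem _ e ha) hb)
      have h4 := hno _ (add_mem ha hb)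
      simp only [Unit.add_left C.h₂, Unit.add_right C.h₂, Unit.smul_left C.h₂, Unit.smul_right C.h₂, hno a ha,
        hno b hb, mul_zero, add_zero, zero_add] at h1 h4
      have : (e - σ e) * f₂ a b = 0 := by linear_combination h1 - σ e * h4
      exact (mul_eq_zero.1 this).resolve_left (sub_ne_zero.2 (Ne.symm he))
    have hrx : f₂ r x = 0 := hr x (Submodule.mem_span_singleton_self x)
    have hxr := Unit.eq_zero_symm C.h₂ hrx
    have hσr := Unit.herm' C.h₂ r r
    have hσx := Unit.herm' C.h₂ x x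
    obtain ⟨β, hβ⟩ := Unit.exists_norm C.hU.involutive C.hU.ne_refl (-f₂ x x / f₂ r r)
      (by rw [map_div₀, map_neg, hσr, hσx])
    obtain ⟨μ, hμ, hμ1⟩ : ∃ μ : F, μ * σ μ = 1 ∧ μ ≠ 1 := by
      obtain ⟨z, hz⟩ := Unit.exists_moved C.hU.ne_refl
      have hz0 : z ≠ 0 := by rintro rfl; exact hz (map_zero σ)
      refine ⟨σ z / z, ?_, fun h => hz ((div_eq_one_iff_eq hz0).1 h)⟩
      rw [map_div₀, C.hU.involutive]
      field_simp [(map_ne_zero σ).2 hz0]
    have hβ0 : β ≠ 0 := fun h => hxx (by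
      rw [h, zero_mul, eq_comm, div_eq_zero_iff, neg_eq_zero] at hβ
      exact hβ.resolve_right hrr)
    obtain ⟨d, hd⟩ : ∃ d, d = μ * β - β := ⟨_, rfl⟩
    have hd0 : d ≠ 0 := by
      rw [hd, ← sub_one_mul]; exact mul_ne_zero (sub_ne_zero.2 hμ1) hβ0
    obtain ⟨w₁, hw₁d⟩ : ∃ w₁, w₁ = (μ * β / d) • (x + β • r) := ⟨_, rfl⟩
    obtain ⟨w₃, hw₃d⟩ : ∃ w₃, w₃ = (-β / d) • (x + (μ * β) • r) := ⟨_, rfl⟩
    have hnorm : ∀ γ, γ * σ γ = -f₂ x x / f₂ r r → f₂ (x + γ • r) (x + γ • r) = 0 := fun γ hγ => by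
      simp only [Unit.add_left C.h₂, Unit.add_right C.h₂, Unit.smul_left C.h₂, Unit.smul_right C.h₂, hxr, hrx]
      rw [eq_div_iff hrr] at hγ
      linear_combination hγ
    have hw₁ : f₂ w₁ w₁ = 0 := by
      rw [hw₁d, Unit.smul_left C.h₂, Unit.smul_right C.h₂, hnorm β hβ, mul_zero, mul_zero]
    have hw₃ : f₂ w₃ w₃ = 0 := by
      rw [hw₃d, Unit.smul_left C.h₂, Unit.smul_right C.h₂, hnorm (μ * β) (by
        rw [map_mul, ← hβ]; linear_combination (β * σ β) * hμ), mul_zero, mul_zero]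
    have hx : x = w₁ + w₃ := by
      rw [hw₁d, hw₃d]
      match_scalars <;> field_simp <;> rw [hd] <;> ring
    have h13 : f₂ w₁ w₃ ≠ 0 := fun h0 => hxx (by
      rw [hx, Unit.add_left C.h₂, Unit.add_right C.h₂, Unit.add_right C.h₂, hw₁, hw₃, h0,
        Unit.eq_zero_symm C.h₂ h0]
      ring)
    obtain ⟨z, hz, hz1, hz3⟩ := Unit.exists_iso_hyperbolic C.h₂ (by rw [Fintype.card_fin, h3]) hw₁ hw₃ h13 θ
      (l * θ)
    have hy0 := hiso v' z hv' hz
    have s1 : RootIn C.hU M (pt T v' z + pt T v w₁) := hadd _ _ hy0 (hiso v w₁ hv hw₁)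
      (by rw [C.form, hv'v, one_mul, hz1]; exact mul_ne_zero hc hθ0)
      (by rw [C.form, hv'v, one_mul, hz1, map_mul, hσc, hσθ]; ring)
    have e2 : f (pt T v' z + pt T v w₁) (pt T v w₃) = c * (l * θ) := by
      rw [Unit.add_left C.hU, C.form, C.form, hv'v, hv, hz3]; ring
    have s2 := hadd _ _ s1 (hiso v w₃ hv hw₃) (by rw [e2]; exact mul_ne_zero hc (mul_ne_zero hl0 hθ0))
      (by rw [e2, map_mul, map_mul, hσc, hl, hσθ]; ring)
    have e3 : f (pt T v' z + pt T v w₁ + pt T v w₃) (pt T v' z) = c * (-(1 + l) * θ) := by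
      have a1 : f₂ w₁ z = -θ := by rw [← Unit.herm' C.h₂, hz1, hσθ]
      have a3 : f₂ w₃ z = -(l * θ) := by rw [← Unit.herm' C.h₂, hz3, map_mul, hl, hσθ]; ring
      rw [Unit.add_left C.hU, Unit.add_left C.hU, C.form, C.form, C.form, hv', hvv', a1, a3]; ring
    have hl1' : (1 + l) ≠ 0 := fun h => hl1 (by linear_combination h)
    have s3 := hsub _ _ s2 hy0 (by rw [e3]; exact mul_ne_zero hc (mul_ne_zero (neg_ne_zero.2 hl1') hθ0))
      (by rw [e3, map_mul, map_mul, hσc, map_neg, map_add, map_one, hl, hσθ]; ring)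
    convert s3 using 1
    rw [hx, pt_add_right]; abel
  obtain ⟨v, -, hv0, hv⟩ := exists_iso_in C.h₁ (S := (⊤ : Submodule F (Fin n₁ → F)))
    (by rw [finrank_top, Module.finrank_fin_fun]; omega)
  obtain ⟨v', hv', hv'v, hvv'⟩ := exists_partner C.h₁ hv0 hv
  rw [expandL C h2 hv hv' hv'v hvv' y] at hy ⊢
  generalize cL T (flinU C.h₁ v') y = P at hy
  generalize cL T (flinU C.h₁ v) y = W at hy
  have hp := hW v hv P
  have hw := hW v' hv' W
  have hfp : f (pt T v P) (pt T v P) = 0 := hp.1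
  have hfw : f (pt T v' W) (pt T v' W) = 0 := hw.1
  have hpw : f (pt T v P) (pt T v' W) + σ (f (pt T v P) (pt T v' W)) = 0 := by
    rw [Unit.herm' C.hU]
    rwa [Unit.add_left C.hU, Unit.add_right C.hU, Unit.add_right C.hU, hfp, hfw, zero_add, add_zero] at hy
  by_cases h0 : f (pt T v P) (pt T v' W) = 0
  swap; · exact hadd _ _ hp hw h0 hpw
  rcases eq_or_ne P 0 with rfl | hP
  · rwa [pt_zero_right, zero_add]
  obtain ⟨Z, hZ⟩ := (C.h₂.nondegenerate P hP).2
  obtain ⟨m, hm⟩ : ∃ m, σ m = θ / (c * f₂ P Z) := ⟨σ (θ / (c * f₂ P Z)), C.hU.involutive _⟩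
  have hpz : f (pt T v P) (pt T v' (m • Z)) = θ := by
    rw [C.form, hvv', one_mul, Unit.smul_right C.h₂, hm]
    field_simp
  have h1 := hadd _ _ hp (hW v' hv' (m • Z)) (by rw [hpz]; exact hθ0) (by rw [hpz]; exact hθ)
  have e : f (pt T v P + pt T v' (m • Z)) (pt T v' (W - m • Z)) = -θ := by
    rw [pt_sub_right, Unit.add_left C.hU, Unit.sub_right C.hU, h0, hpz, Unit.sub_right C.hU, C.form, C.form,
      hv']
    ring
  have h4 := hadd _ _ h1 (hW v' hv' (W - m • Z)) (by rw [e]; exact neg_ne_zero.2 hθ0)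
    (by rw [e, map_neg]; linear_combination -hθ)
  convert h4 using 1
  rw [pt_sub_right]; abel

/-- the dichotomy for `F^2 ⊗ F^3` -/
theorem eq_or_le_tensor_six (h2 : n₁ = 2) (h3 : n₂ = 3) {q : ℕ} (hq : 3 ≤ q) (hσ : ∀ x, σ x = x ^ q)
    (hF : Fintype.card F = q ^ 2) (hex : ¬ (n₁ = 2 ∧ ∀ x : F, σ x = x → x = 0 ∨ x = 1)) :
    M = suGroup f ∨ M ≤ Cfsg.Geo.tensorProductSubgroup n₁ n₂ T.e T.P := by
  by_cases hR : TopScalar T f₂ M ∧ TopScalarL T f₁ M
  · exact Or.inr (le_tensor_six C h2 h3 hq hσ hF hR.1 hR.2)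
  refine Or.inl (le_antisymm C.le ?_)
  obtain ⟨v₀, w₀, hv₀, hw₀, hv₀', hw₀', hroot⟩ :
      ∃ v w, v ≠ 0 ∧ w ≠ 0 ∧ f₁ v v = 0 ∧ f₂ w w = 0 ∧ RootIn C.hU M (pt T v w) := by
    by_cases h : TopScalar T f₂ M
    · exact rootIn_of_topL C h3 fun h' => hR ⟨h, h'⟩
    · exact rootIn_of_top C hex h
  obtain ⟨l, hl, hl0, hl1⟩ : ∃ l : F, σ l = l ∧ l ≠ 0 ∧ l ≠ -1 := by
    by_contra hno; push Not at hno
    refine hex ⟨h2, fun x hx => ?_⟩
    by_cases hx0 : x = 0
    · exact Or.inl hx0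
    have hx1 : x = -1 := hno x hx hx0
    exact Or.inr (hx1.trans (hno 1 (map_one σ) one_ne_zero).symm)
  refine Unit.su_le_of_utv C.hU (le_trans (by norm_num) C.big) M fun u d hu hd => ?_
  exact (rootIn_all_six C h2 h3 ⟨l, hl, hl0, hl1⟩ hv₀ hw₀ hv₀' hw₀' hroot hu).2 d hd

omit C in
/-- Tensor stabilisers `2 ⊗ 3` are maximal in `SU_6(q)` for `q ≥ 3`. -/
theorem tensor_maximal_six {F : Type*} [Field F] [Fintype F] (q : ℕ) (hF : Fintype.card F = q ^ 2) (hq : 3 ≤ q)
    (e : Fin 6 ≃ Fin 2 × Fin 3) (P : Matrix.GeneralLinearGroup (Fin 6) F)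
    (f₁ : (Fin 2 → F) → (Fin 2 → F) → F) (f₂ : (Fin 3 → F) → (Fin 3 → F) → F)
    (hf₁ : Cfsg.Geo.IsUnitaryFormPow q f₁) (hf₂ : Cfsg.Geo.IsUnitaryFormPow q f₂)
    (hT : Cfsg.Geo.IsTensorFormStructure (fun x : F => x ^ q) (Cfsg.hermForm 6 F q) f₁ f₂ e P) :
    Cfsg.Geo.IsMaximalIn (Cfsg.GU 6 F q ⊓ Cfsg.Geo.specialLinear (Fin 6) F)
      (Cfsg.Geo.tensorProductSubgroup 2 3 e P ⊓ (Cfsg.GU 6 F q ⊓ Cfsg.Geo.specialLinear (Fin 6) F)) := by
  classical
  obtain ⟨τ, hτ, hU⟩ := Unit.hermForm_isUnitary (F := F) 6 q hF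
  have mk : ∀ {m : ℕ} {h : (Fin m → F) → (Fin m → F) → F}, Cfsg.Geo.IsUnitaryFormPow q h →
      Cfsg.Geo.IsUnitaryForm τ h := fun {m h} hh =>
    ⟨hU.ne_refl, hU.involutive, hh.add_left, hh.smul_left, fun v w => by rw [hτ]; exact hh.herm v w,
      hh.nondegenerate⟩
  obtain ⟨c, hc, hform⟩ := hT
  let T : TSys (Fin 6) F 2 3 := ⟨e, P⟩
  have hpt : ∀ u v u' v', Cfsg.hermForm 6 F q (pt T u v) (pt T u' v') = c * (f₁ u u' * f₂ v v') := by
    intro u v u' v'
    have hσ : (fun x : F => x ^ q) = ⇑(τ : F →+* F) := funext fun x => (hτ x).symm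
    have h := hform (fun p => u p.1 * v p.2) (fun p => u' p.1 * v' p.2)
    rw [hσ] at h
    refine h.trans ?_
    congr 1
    have hk := Cfsg.Agent.Forms.formOfGram_kronecker (k := 1) (τ : F →+* F) (Cfsg.Geo.gramMatrix f₁)
      (Cfsg.Geo.gramMatrix f₂) (fun _ => u) (fun _ => u') (fun _ => v) (fun _ => v')
    simp only [Fin.sum_univ_one] at hk
    rw [hk, Cfsg.Agent.Forms.formOfGram_gramMatrix (τ : F →+* F) f₁ hf₁.add_left hf₁.smul_left
        (fun x y => (mk hf₁).herm y x),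
      Cfsg.Agent.Forms.formOfGram_gramMatrix (τ : F →+* F) f₂ hf₂.add_left hf₂.smul_left
        (fun x y => (mk hf₂).herm y x)]
  have hex : ¬ (2 = 2 ∧ ∀ x : F, τ x = x → x = 0 ∨ x = 1) := by
    rintro ⟨-, hfix⟩
    have hcube : ∀ x : F, x ≠ 0 → x * τ x = 1 := fun x hx =>
      (hfix _ (by rw [map_mul, hU.involutive, mul_comm])).resolve_left (mul_ne_zero hx ((map_ne_zero τ).2 hx))
    set p : Polynomial F := Polynomial.X ^ (q + 1) - 1 with hp
    have hp0 : p ≠ 0 := by
      rw [hp]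
      intro h
      have := congrArg (Polynomial.eval 0) h
      simp at this
    have hroots : Finset.univ.erase 0 ⊆ p.roots.toFinset := fun x hx => by
      rw [Multiset.mem_toFinset, Polynomial.mem_roots hp0]
      simp only [hp, Polynomial.IsRoot, Polynomial.eval_sub, Polynomial.eval_pow, Polynomial.eval_X,
        Polynomial.eval_mul, Polynomial.eval_one, pow_succ']
      rw [← hτ, hcube x (Finset.ne_of_mem_erase hx), sub_self]
    have h1 := (Finset.card_le_card hroots).trans ((Multiset.toFinset_card_le _).trans (Polynomial.card_roots' p))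
    have h2' : p.natDegree ≤ q + 1 := by
      rw [hp]
      exact (Polynomial.natDegree_sub_le _ _).trans (by simp)
    rw [Finset.card_erase_of_mem (Finset.mem_univ _), Finset.card_univ, hF] at h1
    have h4 : q ^ 2 ≤ q + 2 := by omega
    nlinarith
  have mkC : ∀ M : Subgroup (Matrix.GeneralLinearGroup (Fin 6) F),
      M ≤ Cfsg.GU 6 F q ⊓ Cfsg.Geo.specialLinear (Fin 6) F →
      Cfsg.Geo.tensorProductSubgroup 2 3 e P ⊓ (Cfsg.GU 6 F q ⊓ Cfsg.Geo.specialLinear (Fin 6) F) ≤ M →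
      UCtx T τ (Cfsg.hermForm 6 F q) f₁ f₂ c M := fun M hle hge =>
    { hU := hU, h₁ := mk hf₁, h₂ := mk hf₂, c_ne := hc, form := hpt, two_le := le_rfl, lt := by norm_num,
      three := le_rfl, big := by rw [Fintype.card_fin], le := hle,
      ge := fun a b hab => hge ⟨gl_mem T a b, hab⟩ }
  have C₀ := mkC (Cfsg.GU 6 F q ⊓ Cfsg.Geo.specialLinear (Fin 6) F) le_rfl inf_le_right
  refine ⟨lt_of_le_not_ge inf_le_right fun h => not_le_tensor C₀ (h.trans inf_le_left), fun M hge hle => ?_⟩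
  rcases eq_or_le_tensor_six (mkC M hle hge) rfl rfl hq hτ hF hex with h | h
  · exact Or.inr h
  · exact Or.inl (le_antisymm (le_inf h hle) hge)

end Cfsg.Agent.MaxCl.SU6
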